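import Cfsg.Agent.S4720
import Cfsg.Agent.Blocks.NormSum
import Cfsg.Agent.BlockChar.RankBounds
import Cfsg.Agent.BlockChar.CharCount
import Cfsg.Agent.Chars2.Linear
import Cfsg.Agent.Chars.Gen
import Cfsg.Agent.Transfer.Fusion
import Mathlib.GroupTheory.Transfer
import Mathlib.GroupTheory.FiniteAbelian.Duality

/-!
The principal block of a group with an abelian Sylow subgroup whose automizer acts
fixed-point-freely: the exceptional characters.
-/

set_option autoImplicit false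
set_option linter.unusedSectionVars false
set_option linter.style.haveILetI false
set_option linter.unusedVariables false

namespace Cfsg.Agent.LeadWork.Coherent

open Cfsg Cfsg.Agent
open scoped ComplexConjugate

/-! ### The combinatorics -/

section combinatorics

variable {Ψ ι : Type*} [Fintype ι] [DecidableEq ι] (R : Ψ → Ψ → Prop) [DecidableRel R]
  (x : Ψ → ι → ℤ) (m : ℤ)

theorem eq_of_rel (hR : Equivalence R)
    (hg : ∀ ψ φ, ∑ i, x ψ i * x φ i = m + if R ψ φ then 1 else 0) {ψ φ : Ψ} (h : R ψ φ) :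
    x ψ = x φ := by
  have h0 : ∑ i, (x ψ i - x φ i) ^ 2 = 0 := by
    calc ∑ i, (x ψ i - x φ i) ^ 2
        = ∑ i, x ψ i * x ψ i + ∑ i, x φ i * x φ i - 2 * ∑ i, x ψ i * x φ i := by
          rw [Finset.mul_sum, ← Finset.sum_add_distrib, ← Finset.sum_sub_distrib]
          exact Finset.sum_congr rfl fun i _ => by ring
      _ = 0 := by rw [hg, hg, hg, if_pos h, if_pos (hR.refl _), if_pos (hR.refl _)]; ring
  funext i
  have := (Finset.sum_eq_zero_iff_of_nonneg fun i _ => sq_nonneg (x ψ i - x φ i)).1 h0 i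
    (Finset.mem_univ i)
  exact sub_eq_zero.1 (eq_zero_of_pow_eq_zero this)

theorem diff_inner (hg : ∀ ψ φ, ∑ i, x ψ i * x φ i = m + if R ψ φ then 1 else 0) (a b c : Ψ) :
    ∑ i, (x a i - x b i) * (x a i - x c i) =
      (if R a a then 1 else 0) - (if R a c then 1 else 0) - (if R b a then 1 else 0) +
        if R b c then 1 else 0 := by
  calc ∑ i, (x a i - x b i) * (x a i - x c i)
      = ∑ i, x a i * x a i - ∑ i, x a i * x c i - ∑ i, x b i * x a i + ∑ i, x b i * x c i := by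
        rw [← Finset.sum_sub_distrib, ← Finset.sum_sub_distrib, ← Finset.sum_add_distrib]
        exact Finset.sum_congr rfl fun i _ => by ring
    _ = _ := by rw [hg, hg, hg, hg]; ring

theorem exists_diff (hR : Equivalence R)
    (hg : ∀ ψ φ, ∑ i, x ψ i * x φ i = m + if R ψ φ then 1 else 0)
    (dg : ι → ℤ) (hd : ∀ i, 0 < dg i) (hdx : ∀ ψ, ∑ i, dg i * x ψ i = 0) {ψ φ : Ψ}
    (h : ¬ R ψ φ) :
    ∃ P M : ι, P ≠ M ∧
      ∀ i, x ψ i - x φ i = (if i = P then 1 else 0) - if i = M then 1 else 0 := by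
  classical
  obtain ⟨v, hv⟩ : ∃ v : ι → ℤ, ∀ i, v i = x ψ i - x φ i := ⟨_, fun _ => rfl⟩
  have h2 : ∑ i, v i ^ 2 = 2 := by
    simp only [hv, sq]
    rw [diff_inner R x m hg, if_pos (hR.refl _), if_pos (hR.refl φ), if_neg h,
      if_neg (mt hR.symm h)]
    rfl
  have h1 : ∑ i, dg i * v i = 0 := by
    simp only [hv, mul_sub, Finset.sum_sub_distrib, hdx, sub_zero]
  have hne : ∃ i ∈ (Finset.univ : Finset ι), dg i * v i ≠ 0 := by
    by_contra hno
    push Not at hno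
    have : ∀ i, v i = 0 := fun i =>
      (mul_eq_zero.1 (hno i (Finset.mem_univ i))).resolve_left (hd i).ne'
    simp [this] at h2
  obtain ⟨P, -, hP⟩ := Finset.exists_pos_of_sum_zero_of_exists_nonzero _ h1 hne
  obtain ⟨M, -, hM⟩ := Finset.exists_pos_of_sum_zero_of_exists_nonzero
    (s := (Finset.univ : Finset ι)) (fun i => -(dg i * v i)) (by simp [h1])
    (by obtain ⟨i, hi, h⟩ := hne; exact ⟨i, hi, neg_ne_zero.2 h⟩)
  have hP' : 1 ≤ v P := pos_of_mul_pos_right hP (hd P).le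
  have hM' : v M ≤ -1 := by
    have : 0 < -v M := pos_of_mul_pos_right (by rw [mul_neg]; exact hM) (hd M).le
    omega
  have hPM : P ≠ M := fun h => by subst h; omega
  have hsplit := Finset.add_sum_erase Finset.univ (fun i => v i ^ 2) (Finset.mem_univ P)
  rw [← Finset.add_sum_erase (Finset.univ.erase P) (fun i => v i ^ 2)
    (Finset.mem_erase.2 ⟨hPM.symm, Finset.mem_univ M⟩), h2] at hsplit
  have hrest : 0 ≤ ∑ i ∈ (Finset.univ.erase P).erase M, v i ^ 2 :=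
    Finset.sum_nonneg fun i _ => sq_nonneg _
  have hP2 : (1 : ℤ) ≤ v P ^ 2 := by nlinarith
  have hM2 : (1 : ℤ) ≤ v M ^ 2 := by nlinarith
  have hP1 : v P = 1 := by nlinarith
  have hM1 : v M = -1 := by nlinarith
  have hz : ∑ i ∈ (Finset.univ.erase P).erase M, v i ^ 2 = 0 := by linarith
  refine ⟨P, M, hPM, fun i => ?_⟩
  rw [← hv]
  by_cases hiP : i = P
  · subst hiP; simp [hP1, hPM]
  by_cases hiM : i = M
  · subst hiM; simp [hM1, hPM.symm]
  have := (Finset.sum_eq_zero_iff_of_nonneg fun i _ => sq_nonneg (v i)).1 hz i (by simp [hiP, hiM])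
  simp [hiP, hiM, eq_zero_of_pow_eq_zero this]

theorem coherent_core (hR : Equivalence R)
    (hg : ∀ ψ φ, ∑ i, x ψ i * x φ i = m + if R ψ φ then 1 else 0) (ψ0 : Ψ) (P : ι)
    (h : ∀ ψ, ¬ R ψ0 ψ → ∃ M : ι, M ≠ P ∧
      ∀ i, x ψ0 i - x ψ i = (if i = P then 1 else 0) - if i = M then 1 else 0) :
    ∃ (ζ : Ψ → ι) (w : ι → ℤ) (c : ℤ), (∀ ψ φ, ζ ψ = ζ φ ↔ R ψ φ) ∧
      (∀ ψ i, x ψ i = w i + if i = ζ ψ then 1 else 0) ∧ ∀ ψ, w (ζ ψ) = c := by
  classical
  choose M hMP hM using h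
  let ζ : Ψ → ι := fun ψ => if h : R ψ0 ψ then P else M ψ h
  obtain ⟨w, hw⟩ : ∃ w : ι → ℤ, ∀ i, w i = x ψ0 i - if i = P then 1 else 0 := ⟨_, fun _ => rfl⟩
  have hx : ∀ ψ i, x ψ i = w i + if i = ζ ψ then 1 else 0 := by
    intro ψ i
    by_cases h : R ψ0 ψ
    · rw [← eq_of_rel R x m hR hg h]; simp [ζ, h, hw]
    · have := hM ψ h i
      simp only [ζ, dif_neg h, hw]
      linarith
  have hnorm : ∀ ψ φ, ∑ i, x ψ i * x φ i =
      (∑ i, w i * w i) + w (ζ ψ) + w (ζ φ) + if ζ ψ = ζ φ then 1 else 0 := by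
    intro ψ φ
    simp [hx, mul_add, add_mul, Finset.sum_add_distrib, eq_comm]
    ring
  have hrel : ∀ ψ, w (ζ ψ) = w (ζ ψ0) := fun ψ => by
    have a := hnorm ψ ψ
    have b := hnorm ψ0 ψ0
    rw [hg, if_pos (hR.refl _), if_pos rfl] at a b
    linarith
  refine ⟨ζ, w, w (ζ ψ0), fun ψ φ => ?_, hx, hrel⟩
  have a := hnorm ψ φ
  have b := hnorm ψ0 ψ0
  rw [hg] at a b
  rw [if_pos (hR.refl _), if_pos rfl] at b
  rw [hrel ψ, hrel φ] at a
  constructor
  · intro h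
    by_contra hn
    rw [if_pos h, if_neg hn] at a
    linarith
  · intro h
    by_contra hn
    rw [if_neg hn, if_pos h] at a
    linarith

theorem coherent (hR : Equivalence R)
    (hg : ∀ ψ φ, ∑ i, x ψ i * x φ i = m + if R ψ φ then 1 else 0)
    (dg : ι → ℤ) (hd : ∀ i, 0 < dg i) (hdx : ∀ ψ, ∑ i, dg i * x ψ i = 0) {ψ0 ψ1 : Ψ}
    (h01 : ¬ R ψ0 ψ1) :
    ∃ (ζ : Ψ → ι) (w : ι → ℤ) (δ c : ℤ), (δ = 1 ∨ δ = -1) ∧
      (∀ ψ φ, ζ ψ = ζ φ ↔ R ψ φ) ∧ (∀ ψ i, x ψ i = w i + δ * if i = ζ ψ then 1 else 0) ∧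
        ∀ ψ, w (ζ ψ) = c := by
  classical
  choose P M hPM hD using fun ψ (h : ¬ R ψ0 ψ) => exists_diff R x m hR hg dg hd hdx h
  have share : ∀ ψ φ hψ hφ, ¬ R ψ φ → P ψ hψ = P φ hφ ∨ M ψ hψ = M φ hφ := by
    intro ψ φ hψ hφ h
    have e := diff_inner R x m hg ψ0 ψ φ
    rw [if_pos (hR.refl _), if_neg hφ, if_neg (mt hR.symm hψ), if_neg h] at e
    simp only [hD ψ hψ, hD φ hφ] at e
    by_contra hno
    push Not at hno
    simp [mul_sub, Finset.sum_sub_distrib] at e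
    rw [if_neg hno.1.symm, if_neg hno.2.symm] at e
    split_ifs at e <;> omega
  have same : ∀ ψ φ hψ hφ, R ψ φ → P ψ hψ = P φ hφ ∧ M ψ hψ = M φ hφ := by
    intro ψ φ hψ hφ h
    have e := eq_of_rel R x m hR hg h
    have a := hD ψ hψ (P ψ hψ)
    have b := hD ψ hψ (M ψ hψ)
    rw [e, hD φ hφ, if_pos rfl, if_neg (hPM ψ hψ)] at a
    rw [e, hD φ hφ, if_pos rfl, if_neg (hPM ψ hψ).symm] at b
    constructor
    · by_contra hne
      rw [if_neg hne] at a
      split_ifs at a <;> omega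
    · by_contra hne
      rw [if_neg hne] at b
      split_ifs at b <;> omega
  by_cases hall : ∀ ψ h, P ψ h = P ψ1 h01
  · obtain ⟨ζ, w, c, hζ, hx, hc⟩ := coherent_core R x m hR hg ψ0 (P ψ1 h01)
      fun ψ h => ⟨M ψ h, by rw [← hall ψ h]; exact (hPM ψ h).symm,
        fun i => by rw [hD ψ h, hall ψ h]⟩
    exact ⟨ζ, w, 1, c, Or.inl rfl, hζ, fun ψ i => by rw [hx, one_mul], hc⟩
  · push Not at hall
    obtain ⟨ψ, hψ, hne⟩ := hall
    have hall' : ∀ φ h, M φ h = M ψ1 h01 := by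
      intro φ hφ
      by_contra hne'
      have h1 : M ψ hψ = M ψ1 h01 :=
        (share ψ ψ1 hψ h01 fun h => hne (same ψ ψ1 hψ h01 h).1).resolve_left hne
      have h2 : P φ hφ = P ψ1 h01 :=
        (share φ ψ1 hφ h01 fun h => hne' (same φ ψ1 hφ h01 h).2).resolve_right hne'
      rcases Classical.em (R ψ φ) with h | h
      · exact hne ((same ψ φ hψ hφ h).1.trans h2)
      · rcases share ψ φ hψ hφ h with h | h
        · exact hne (h.trans h2)
        · exact hne' (h.symm.trans h1)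
    obtain ⟨ζ, w, c, hζ, hx, hc⟩ := coherent_core R (fun ψ i => -x ψ i) m hR
      (fun ψ φ => by simpa using hg ψ φ) ψ0 (M ψ1 h01)
      fun ψ h => ⟨P ψ h, by rw [← hall' ψ h]; exact hPM ψ h,
        fun i => by rw [← hall' ψ h]; linarith [hD ψ h i]⟩
    exact ⟨ζ, fun i => -w i, -1, -c, Or.inr rfl, hζ, fun ψ i => by linarith [hx ψ i],
      fun ψ => by simp [hc ψ]⟩

/-- With two classes only, the sign may be chosen. -/
theorem coherent' (hR : Equivalence R)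
    (hg : ∀ ψ φ, ∑ i, x ψ i * x φ i = m + if R ψ φ then 1 else 0)
    (dg : ι → ℤ) (hd : ∀ i, 0 < dg i) (hdx : ∀ ψ, ∑ i, dg i * x ψ i = 0) {ψ0 ψ1 : Ψ}
    (h01 : ¬ R ψ0 ψ1) :
    ∃ (ζ : Ψ → ι) (w : ι → ℤ) (δ c : ℤ), (δ = 1 ∨ δ = -1) ∧
      (∀ ψ φ, ζ ψ = ζ φ ↔ R ψ φ) ∧ (∀ ψ i, x ψ i = w i + δ * if i = ζ ψ then 1 else 0) ∧
        (∀ ψ, w (ζ ψ) = c) ∧ ((∀ ψ, R ψ ψ0 ∨ R ψ ψ1) → c + δ ≠ 0) := by
  classical
  obtain ⟨ζ, w, δ, c, hδ, hζ, hx, hc⟩ := coherent R x m hR hg dg hd hdx h01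
  by_cases h : (∀ ψ, R ψ ψ0 ∨ R ψ ψ1) ∧ c + δ = 0
  · obtain ⟨hall, hcd⟩ := h
    let ζ' : Ψ → ι := fun ψ => if R ψ ψ0 then ζ ψ1 else ζ ψ0
    have hne : ζ ψ0 ≠ ζ ψ1 := mt (hζ _ _).1 h01
    have h10 : ∀ ψ, ¬ (R ψ ψ0 ∧ R ψ ψ1) := fun ψ hh => h01 (hR.trans (hR.symm hh.1) hh.2)
    refine ⟨ζ', fun i => w i + δ * ((if i = ζ ψ0 then 1 else 0) + if i = ζ ψ1 then 1 else 0),
      -δ, c + δ, by omega, fun ψ φ => ?_, fun ψ i => ?_, fun ψ => ?_, fun _ => by omega⟩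
    · by_cases a : R ψ ψ0 <;> by_cases b : R φ ψ0
      · simp only [ζ', if_pos a, if_pos b]
        exact iff_of_true trivial (hR.trans a (hR.symm b))
      · simp only [ζ', if_pos a, if_neg b]
        exact iff_of_false hne.symm fun e => b (hR.trans (hR.symm e) a)
      · simp only [ζ', if_neg a, if_pos b]
        exact iff_of_false hne fun e => a (hR.trans e b)
      · simp only [ζ', if_neg a, if_neg b]
        exact iff_of_true trivial (hR.trans ((hall ψ).resolve_left a)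
          (hR.symm ((hall φ).resolve_left b)))
    · rw [hx]
      by_cases a : R ψ ψ0
      · simp only [ζ', if_pos a, (hζ ψ ψ0).2 a]; ring
      · simp only [ζ', if_neg a, (hζ ψ ψ1).2 ((hall ψ).resolve_left a)]; ring
    · by_cases a : R ψ ψ0
      · simp [ζ', a, hne.symm, hc]
      · simp [ζ', a, hne, hc]
  · exact ⟨ζ, w, δ, c, hδ, hζ, hx, hc, fun h1 h2 => h ⟨h1, h2⟩⟩

end combinatorics

/-! ### Characters of an abelian group -/

universe u

/-- Second orthogonality for the linear characters of an abelian group. -/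
theorem sum_dual {A : Type u} [CommGroup A] [Finite A] [Fintype (A →* ℂˣ)] [DecidableEq A]
    (v : A) : ∑ ψ : A →* ℂˣ, (ψ v : ℂ) = if v = 1 then (Nat.card A : ℂ) else 0 := by
  classical
  split_ifs with hv
  · subst hv
    simp [← Nat.card_eq_fintype_card, CommGroup.card_monoidHom_of_hasEnoughRootsOfUnity A ℂ]
  · obtain ⟨φ, hφ⟩ := CommGroup.exists_apply_ne_one_of_hasEnoughRootsOfUnity A ℂ hv
    have h : ∑ ψ : A →* ℂˣ, (ψ v : ℂ) = (φ v : ℂ) * ∑ ψ : A →* ℂˣ, (ψ v : ℂ) := by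
      conv_lhs => rw [← Equiv.sum_comp (Equiv.mulLeft φ)]
      simp [Finset.mul_sum]
    by_contra hne
    exact hφ (Units.ext (mul_right_cancel₀ hne ((one_mul _).trans h).symm))

theorem linFun_inv {A : Type u} [Group A] [Finite A] (ψ : A →* ℂˣ) (a : A) :
    (ψ a⁻¹ : ℂ) = conj (ψ a : ℂ) := by
  simpa using Chars.char_inv_eq_conj (Chars2.linFun_isCharacter ψ).1 a

/-- Orthogonality of two linear characters. -/
theorem sum_mul_conj {A : Type u} [Group A] [Fintype A] [DecidableEq (A →* ℂˣ)] (ψ φ : A →* ℂˣ) :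
    ∑ a : A, (ψ a : ℂ) * conj (φ a : ℂ) = if ψ = φ then (Nat.card A : ℂ) else 0 := by
  classical
  have h : ∀ a : A, (ψ a : ℂ) * conj (φ a : ℂ) = ((ψ * φ⁻¹) a : ℂˣ) := by
    intro a
    rw [← linFun_inv, map_inv]
    rfl
  simp only [h]
  split_ifs with hψ
  · subst hψ
    simp [Nat.card_eq_fintype_card]
  · exact sum_hom_units_eq_zero ((Units.coeHom ℂ).comp (ψ * φ⁻¹)) fun h => hψ (mul_inv_eq_one.1
      (MonoidHom.ext fun a => Units.ext (by simpa using DFunLike.congr_fun h a)))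

end Cfsg.Agent.LeadWork.Coherent
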