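/-
A non-trivial normal subgroup of a twisted group covers it together with the Borel subgroup.
-/
import Cfsg.Agent.Chev.TwistSimple

set_option autoImplicit false

universe u

namespace Cfsg.Agent.LeadWork.TwistNormal

open Cfsg.Lie Cfsg.Agent.Chev
open scoped Matrix MatrixGroups commutatorElement

variable {D : ChevalleyDatum} {K : Type u} [Field K] {C : Cert.{u} D} (S : Twist C K)
  {M : CoxeterMatrix (Fin D.rank)}

theorem small_le_sup (hM : CoxOK D M) (hT : S.TorusOK) {pa : List ℕ} (htree : TreeOK D pa)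
:
    ∀ {N : Subgroup ↥S.small}, N.Normal → N ≠ ⊥ → ∀ g : ↥S.small, ∃ m ∈ N, ∃ b : ↥S.small, (b : GL D.Idx K) ∈ D.borelSubgroup K ∧ m * b = g := by
  intro N hN hbot
  let G := S.small
  set Mg : Subgroup (GL D.Idx K) := N.map G.subtype
  have hnorm : G ≤ Subgroup.normalizer (Mg : Set (GL D.Idx K)) := by
    intro g hg
    rw [Subgroup.mem_normalizer_iff]
    intro x
    constructor
    · rintro ⟨y, hy, rfl⟩
      exact ⟨(⟨g, hg⟩ : ↥G) * y * (⟨g, hg⟩ : ↥G)⁻¹, hN.conj_mem y hy _, by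
        simp only [Subgroup.subtype_apply, Subgroup.coe_mul, Subgroup.coe_inv]⟩
    · rintro ⟨y, hy, e⟩
      refine ⟨(⟨g, hg⟩ : ↥G)⁻¹ * y * (⟨g, hg⟩ : ↥G), by simpa using hN.conj_mem y hy (⟨g, hg⟩ : ↥G)⁻¹, ?_⟩
      simp only [Subgroup.subtype_apply, Subgroup.coe_mul, Subgroup.coe_inv] at e ⊢
      rw [e]; group
  set B₁ := D.borelSubgroup K ⊓ G
  set P := Mg ⊔ B₁
  have hBP : B₁ ≤ P := le_sup_right
  have hPG : P ≤ G := sup_le (Subgroup.map_subtype_le N) inf_le_right
  have hPdec : ∀ g ∈ P, ∃ m ∈ Mg, ∃ b ∈ B₁, m * b = g := fun g hg =>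
    (Cert.mem_sup_of_normalised (inf_le_right.trans hnorm)).mp hg
  have hex : ∃ i < D.rank, S.nJ i (1 : K) ∈ P := by
    by_contra hno
    push Not at hno
    have hPB : P ≤ B₁ := S.overgroup_le hM hT hBP hPG le_rfl fun i hi h => absurd h (hno i hi)
    apply hbot
    have hle : N ≤ B₁.subgroupOf G := fun x hx =>
      Subgroup.mem_subgroupOf.mpr (hPB (Subgroup.mem_sup_left ⟨x, hx, rfl⟩))
    haveI := hN
    exact le_bot_iff.mp (S.borel_core hM ▸ Subgroup.normal_le_normalCore.mpr hle)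
  have hcl : ∀ i < D.rank, ∀ j < D.rank, S.nJ i (1 : K) ∈ P →
      D.cartan i (D.simple j) ≠ 0 → S.nJ j (1 : K) ∈ P := by
    intro i hi j hj hPi hA
    by_cases hij : j ∈ S.G.ow i
    · rwa [S.nJ_eq_of_mem hi hij]
    set si := S.nJ i (1 : K) with hsi
    set sj := S.nJ j (1 : K) with hsj_def
    have hsiS : si ∈ G := S.nJ_mem hi (S.valid_one _)
    have hsjS : sj ∈ G := S.nJ_mem hj (S.valid_one _)
    obtain ⟨m, hm, b, hb, he⟩ := hPdec si hPi
    have hconj : sj * m * sj⁻¹ ∈ P := Subgroup.mem_sup_left ((Subgroup.mem_normalizer_iff.mp (hnorm hsjS) m).mp hm)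
    have hmeq : m = si * b⁻¹ := by rw [← he]; group
    have hn : si⁻¹ * sj⁻¹ ∈ D.monomialSubgroup K ⊓ G := Subgroup.mem_inf.mpr
      ⟨mul_mem (inv_mem (S.nJ_monomial hi)) (inv_mem (S.nJ_monomial hj)), mul_mem (inv_mem hsiS) (inv_mem hsjS)⟩
    obtain ⟨b₁, hb₁, b₂, hb₂, h⟩ := S.fixed_bn_mul hM hT hj (b := b) hb hn
    have hinv : sj * b * (si⁻¹ * sj⁻¹) ∈ P := by
      have := inv_mem hconj
      rwa [show (sj * m * sj⁻¹)⁻¹ = sj * b * (si⁻¹ * sj⁻¹) by rw [hmeq]; group] at this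
    rw [← hsj_def] at h
    rcases h with h | h <;> rw [h] at hinv <;>
      have h3 := mul_mem (mul_mem (inv_mem (hBP hb₁)) hinv) (inv_mem (hBP hb₂))
    · rw [show b₁⁻¹ * (b₁ * (sj * (si⁻¹ * sj⁻¹)) * b₂) * b₂⁻¹ = (sj * si * sj⁻¹)⁻¹ by group, inv_mem_iff] at h3
      have hnN : sj * si * sj⁻¹ ∈ D.monomialSubgroup K :=
        mul_mem (mul_mem (S.nJ_monomial hj) (S.nJ_monomial hi)) (inv_mem (S.nJ_monomial hj))
      refine S.nJ_mem_of_inverts hM hBP hnN (mul_mem (mul_mem hsjS hsiS) (inv_mem hsjS)) h3 hj ?_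
      have hq := C.simple_lt j hj
      have hLi : ∀ a ∈ S.G.ow i, a < D.rank := fun _ ha => S.ok.ow_lt hi ha
      have hLj : ∀ a ∈ S.G.ow j, a < D.rank := fun _ ha => S.ok.ow_lt hj ha
      set r1 := act D (S.G.ow i) (D.simple j)
      have hr1 : r1 < D.nroots := C.act_lt hLi hq
      set r2 := act D (S.G.ow j) r1
      have hr2 : r2 < D.nroots := C.act_lt hLj hr1
      have hi2 : i ∉ S.G.ow j := by
        intro hm'
        obtain ⟨k, hk, e⟩ := TwistOK.mem_ow.mp hm'
        refine hij ?_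
        have h9 := S.ok.node_iter_mem_ow hi (S.ok.self_mem_ow hi) (S.G.nper j - k)
        rw [← e, ← Function.iterate_add_apply, Nat.sub_add_cancel hk.le, S.ok.node_iter_nper hj] at h9
        rwa [e] at h9
      have hci : 0 < C.coef r2 i := by
        rw [S.ok.coef_act_ow hj hr1 hi, if_neg hi2, sub_zero, S.ok.coef_act_ow hi hq hi,
          if_pos (S.ok.self_mem_ow hi), C.coef_simple j hj i hi]
        have hne : i ≠ j := fun e => hij (e ▸ S.ok.self_mem_ow hi)
        rw [if_neg hne]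
        have := C.cartan_simple_nonpos hi hj hne
        omega
      have hr2p : D.IsPosRoot r2 := by
        rcases C.posRoot_or_negRoot hr2 with hp | hn'
        · exact hp
        · have := (C.negRoot_iff _ hr2).mp hn' i hi
          omega
      have hW : ∀ {L : List ℕ}, (∀ a ∈ L, a < D.rank) → ∀ r < D.nroots,
          (D.rootSubgroup K r).map (MulAut.conj (C.nWordElt K L)).toMonoidHom = D.rootSubgroup K (act D L r) :=
        fun hL r hr => C.map_rootSubgroup (C.nWordElt_conj_xu hL hr)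
      have hmap : (D.rootSubgroup K (D.simple j)).map (MulAut.conj (sj * si * sj⁻¹)).toMonoidHom =
          D.rootSubgroup K (D.neg r2) := by
        have hjj : (D.rootSubgroup K (D.simple j)).map (MulAut.conj sj⁻¹).toMonoidHom =
            D.rootSubgroup K (D.neg (D.simple j)) := by
          have h5 := hW hLj (D.neg (D.simple j)) (C.neg_lt _ hq)
          rw [C.act_neg hLj hq, S.ok.act_ow_self hj (S.ok.self_mem_ow hj), C.neg_neg _ hq, ← S.nJ_one hj,
            ← hsj_def] at h5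
          conv_lhs => rw [← h5]
          rw [← map_conj_mul, inv_mul_cancel, map_one]
          exact Subgroup.map_id _
        rw [map_conj_mul, hjj, map_conj_mul, hsi, hsj_def, S.nJ_one hi, S.nJ_one hj, hW hLi _ (C.neg_lt _ hq),
          C.act_neg hLi hq, hW hLj _ (C.neg_lt _ hr1), C.act_neg hLj hr1]
      exact (C.inverts_iff (C.pos_simple hj) (C.neg_lt _ hr2) hmap).mpr (C.negRoot_neg hr2p)
    · rw [show b₁⁻¹ * (b₁ * (si⁻¹ * sj⁻¹) * b₂) * b₂⁻¹ = (sj * si)⁻¹ by group, inv_mem_iff] at h3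
      simpa using mul_mem h3 (inv_mem hPi)
  have hall := closed_of_tree htree (S := fun i => S.nJ i (1 : K) ∈ P) hex hcl
  have hGP : G ≤ P := S.overgroup_le hM hT inf_le_right le_rfl hBP fun i hi _ => hall i hi
  intro g
  obtain ⟨m, ⟨y, hy, rfl⟩, b, hb, e'⟩ := hPdec g.1 (hGP g.2)
  exact ⟨y, hy, ⟨b, hb.2⟩, hb.1, Subtype.ext e'⟩

end Cfsg.Agent.LeadWork.TwistNormal
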