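/-
The fixed points of the triality automorphism of D4 form the Chevalley group of type G2: the fixed subgroup acts
on the 14 dimensional space of fixed vectors, with the orbit elements acting as root elements.
-/
import Cfsg.Agent.LeadWork.E6Fold
import Cfsg.Agent.LeadWork.TwistNormal
import Cfsg.Agent.Chev.TwistD4
import Cfsg.Prelude.Def_ChevAutomorphisms

set_option autoImplicit false

universe u

namespace Cfsg.Agent.LeadWork.D4Fold

open Cfsg.Lie Cfsg.Agent.Chev
open Cfsg.Agent.LeadWork.E6Fold (code code_lt exists_code code_injective bv bv_hv bv_rv ev ev_nil ev_cons ev_append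
  colL ev_colL runL okRun ev_run range_le_of_closure)
open scoped Matrix

variable {F : Type u} [Field F]

/-! ### Formal sums -/

/-- The terms with a given key. -/
def atKey (k : ℕ × ℕ) (L : List (ℕ × ℕ × ℤ)) : List (ℕ × ℕ × ℤ) := L.filter fun p => (p.1, p.2.1) == k

/-- All coefficients add up to zero. -/
def zeroSum : ℕ → List (ℕ × ℕ × ℤ) → Bool
  | _, [] => true
  | 0, _ :: _ => false
  | n + 1, p :: L => ((atKey (p.1, p.2.1) (p :: L)).map fun q => q.2.2).sum == 0 &&
      zeroSum n ((p :: L).filter fun q => (q.1, q.2.1) != (p.1, p.2.1))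

theorem ev_filter {D : ChevalleyDatum} (t : F) (P : ℕ × ℕ × ℤ → Bool) (L : List (ℕ × ℕ × ℤ)) :
    ev D t L = ev D t (L.filter P) + ev D t (L.filter fun q => !P q) := by
  induction L with
  | nil => simp
  | cons p L ih =>
    cases h : P p <;> simp only [List.filter_cons, h, Bool.not_false, Bool.not_true, if_true, ev_cons, ih] <;>
      simp [h, ev_cons, add_assoc, add_left_comm]

theorem ev_atKey {D : ChevalleyDatum} (t : F) (k : ℕ × ℕ) (L : List (ℕ × ℕ × ℤ)) :
    ev D t (atKey k L) = ((((atKey k L).map fun q => q.2.2).sum : ℤ) : F) • t ^ k.2 • bv D F k.1 := by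
  induction L with
  | nil => simp [atKey]
  | cons p L ih =>
    unfold atKey at ih ⊢
    rw [List.filter_cons]
    by_cases h : (p.1, p.2.1) = k
    · rw [if_pos (by simpa using h), ev_cons, ih, List.map_cons, List.sum_cons, Int.cast_add, add_smul, mul_smul,
        ← h]
    · rw [if_neg (by simpa using h), ih]

theorem ev_of_zeroSum {D : ChevalleyDatum} (t : F) :
    ∀ (n : ℕ) (L : List (ℕ × ℕ × ℤ)), zeroSum n L = true → ev D t L = 0 := by
  intro n
  induction n with
  | zero => intro L h; cases L with | nil => rfl | cons p L => simp [zeroSum] at h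
  | succ n ih =>
    intro L h
    cases L with
    | nil => rfl
    | cons p L =>
      simp only [zeroSum, Bool.and_eq_true, beq_iff_eq] at h
      rw [ev_filter t (fun q => (q.1, q.2.1) == (p.1, p.2.1)) (p :: L)]
      show ev D t (atKey (p.1, p.2.1) (p :: L)) + ev D t ((p :: L).filter fun q => (q.1, q.2.1) != (p.1, p.2.1)) = 0
      rw [ev_atKey, h.1, Int.cast_zero, zero_smul, ih _ h.2, add_zero]

theorem ev_neg {D : ChevalleyDatum} (t : F) (L : List (ℕ × ℕ × ℤ)) :
    ev D t (L.map fun p => (p.1, p.2.1, -p.2.2)) = - ev D t L := by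
  induction L with
  | nil => simp
  | cons p L ih => rw [List.map_cons, ev_cons, ev_cons, ih, Int.cast_neg, neg_mul, neg_smul, neg_add]

/-! ### The folding -/

/-- The root of G2 of a root of D4. -/
def foldR (r : ℕ) : ℕ :=
  ([0, 1, 2, 2, 3, 4, 2, 3, 3, 5, 4, 4, 7, 7, 6, 8, 8, 9, 7, 8, 9, 9, 10, 11] : List ℕ).getD r 0

/-- The coordinate of G2 of a coordinate of D4. -/
def fc (c : ℕ) : ℕ :=
  ([0, 1, 0, 0, 2, 3, 4, 4, 5, 6, 4, 5, 5, 7, 6, 6, 9, 9, 8, 10, 10, 11, 9, 10, 11, 11, 12, 13] : List ℕ).getD c 0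

/-- A coordinate of D4 above a coordinate of G2. -/
def sc (k : ℕ) : ℕ := ([0, 1, 4, 5, 6, 8, 9, 13, 18, 16, 19, 21, 26, 27] : List ℕ).getD k 0

/-- The sign of a coordinate in its fixed vector. -/
def sg (c : ℕ) : ℤ :=
  ([1, 1, 1, 1, -1, -1, -1, -1, 1, 1, 1, -1, -1, 1, 1, 1, 1, 1, 1, -1, -1, 1, 1, 1, -1, -1, -1, -1] : List ℤ).getD c 1

theorem fc_sc : ∀ k < 14, fc (sc k) = k ∧ sc k < 28 := by decide +kernel

theorem sg_sq : ∀ c < 28, sg c * sg c = 1 := by decide +kernel

theorem fc_lt : ∀ c < 28, fc c < 14 := by decide +kernel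

theorem dims : chevD4.rank = 4 ∧ chevD4.nroots = 24 ∧ chevG2.rank = 2 ∧ chevG2.nroots = 12 := by decide +kernel

theorem ltD (x : chevD4.Idx) : code chevD4 x < 28 := by
  have h := code_lt x; rw [dims.1, dims.2.1] at h; exact h

theorem ltG (x : chevG2.Idx) : code chevG2 x < 14 := by
  have h := code_lt x; rw [dims.2.2.1, dims.2.2.2] at h; exact h

theorem existsD {c : ℕ} (hc : c < 28) : ∃ x, code chevD4 x = c := exists_code (by rw [dims.1, dims.2.1]; exact hc)

theorem existsG {c : ℕ} (hc : c < 14) : ∃ x, code chevG2 x = c :=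
  exists_code (by rw [dims.2.2.1, dims.2.2.2]; exact hc)

theorem sgF_sq (c : ℕ) (hc : c < 28) : (sg c : F) * (sg c : F) = 1 := by
  rw [← Int.cast_mul, sg_sq c hc, Int.cast_one]

/-- The inclusion of the fixed vectors. -/
def inc (F : Type u) [Field F] : Matrix chevD4.Idx chevG2.Idx F :=
  Matrix.of fun a k => if fc (code chevD4 a) = code chevG2 k then (sg (code chevD4 a) : F) else 0

/-- The reading of a fixed vector. -/
def res (F : Type u) [Field F] : Matrix chevG2.Idx chevD4.Idx F :=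
  Matrix.of fun k a => if code chevD4 a = sc (code chevG2 k) then (sg (code chevD4 a) : F) else 0

theorem res_mulVec (v : chevD4.Idx → F) {k : chevG2.Idx} {a : chevD4.Idx} (h : code chevD4 a = sc (code chevG2 k)) :
    (res F *ᵥ v) k = (sg (code chevD4 a) : F) * v a := by
  simp only [Matrix.mulVec, dotProduct, res, Matrix.of_apply, ite_mul, zero_mul]
  rw [Finset.sum_eq_single a, if_pos h]
  · exact fun b _ hb => if_neg fun e => hb (code_injective (e.trans h.symm))
  · simp

theorem inc_mulVec (v : chevG2.Idx → F) {a : chevD4.Idx} {k : chevG2.Idx} (h : fc (code chevD4 a) = code chevG2 k) :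
    (inc F *ᵥ v) a = (sg (code chevD4 a) : F) * v k := by
  simp only [Matrix.mulVec, dotProduct, inc, Matrix.of_apply, ite_mul, zero_mul]
  rw [Finset.sum_eq_single k, if_pos h]
  · exact fun b _ hb => if_neg fun e => hb (code_injective (e.symm.trans h))
  · simp

theorem res_inc : res F * inc F = 1 := by
  refine Matrix.ext_of_mulVec_single fun k => ?_
  rw [← Matrix.mulVec_mulVec, Matrix.one_mulVec]
  funext k'
  obtain ⟨a, ha⟩ := existsD (fc_sc _ (ltG k')).2
  rw [res_mulVec _ ha, inc_mulVec _ (k := k') (by rw [ha]; exact (fc_sc _ (ltG k')).1), ← mul_assoc,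
    sgF_sq _ (ltD a), one_mul]

/-- The preimage of a coordinate vector. -/
def preL (k : ℕ) : List (ℕ × ℕ × ℤ) :=
  (((List.range 28).filter fun a => fc a == k)).map fun a => (a, 0, sg a)

theorem inc_bv (t : F) (k : ℕ) : inc F *ᵥ bv chevG2 F k = ev chevD4 t (preL k) := by
  funext a
  obtain ⟨k', hk'⟩ := existsG (fc_lt _ (ltD a))
  rw [inc_mulVec _ hk'.symm]
  simp only [ev, preL, List.map_map, listSum_apply, Function.comp_def, Pi.smul_apply, pow_zero,
    mul_one, bv, smul_eq_mul]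
  rw [← List.sum_toFinset _ (List.nodup_range.filter _), hk']
  by_cases h : fc (code chevD4 a) = k
  · rw [if_pos h, Finset.sum_eq_single (code chevD4 a), if_pos rfl]
    · exact fun b _ hb => by rw [if_neg (Ne.symm hb), mul_zero]
    · intro hn; exact absurd (by simp [ltD a, h]) hn
  · rw [if_neg h, mul_zero]
    refine (Finset.sum_eq_zero fun b hb => ?_).symm
    simp only [List.mem_toFinset, List.mem_filter, beq_iff_eq] at hb
    rw [if_neg fun e => h (by rw [e]; exact hb.2), mul_zero]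

/-- The formal reading. -/
def pick (L : List (ℕ × ℕ × ℤ)) : List (ℕ × ℕ × ℤ) :=
  (L.filter fun p => p.1 == sc (fc p.1)).map fun p => (fc p.1, p.2.1, p.2.2 * sg p.1)

theorem res_bv {c : ℕ} : res F *ᵥ bv chevD4 F c = if c = sc (fc c) then (sg c : F) • bv chevG2 F (fc c) else 0 := by
  funext k
  obtain ⟨a, ha⟩ := existsD (fc_sc _ (ltG k)).2
  rw [res_mulVec _ ha]
  by_cases hs : code chevD4 a = c
  · rw [ha] at hs
    have hk : fc c = code chevG2 k := by rw [← hs]; exact (fc_sc _ (ltG k)).1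
    rw [if_pos (by rw [hk]; exact hs.symm)]
    simp [bv, ha, hs, hk]
  · rw [show bv chevD4 F c a = 0 from if_neg hs, mul_zero]
    split_ifs with he
    · rw [Pi.smul_apply, show bv chevG2 F (fc c) k = 0 from if_neg fun e => hs (by rw [ha, e, ← he]), smul_zero]
    · rfl

theorem res_ev (t : F) : ∀ L : List (ℕ × ℕ × ℤ), res F *ᵥ ev chevD4 t L = ev chevG2 t (pick L) := by
  intro L
  induction L with
  | nil => simp [pick]
  | cons p L ih =>
    rw [ev_cons, Matrix.mulVec_add, Matrix.mulVec_smul, ih, res_bv]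
    by_cases he : p.1 = sc (fc p.1)
    · simp [pick, List.filter_cons, ← he, ev_cons, smul_smul]
      ring_nf
    · simp [pick, List.filter_cons, he]

/-- The roots of the orbit element. -/
def orb (r : ℕ) : List ℕ := if gD4a.rhoF r = r then [r] else [r, gD4a.rhoF r, gD4a.rhoF (gD4a.rhoF r)]

/-- The orbit element of a root and the root element of its image agree on the fixed vectors. -/
def okCol (r k : ℕ) : Bool :=
  okRun chevD4 (orb r) (preL k) &&
    zeroSum 400 (pick (runL chevD4 (orb r) (preL k)) ++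
      (colL chevG2 (foldR r) k).map fun p => (p.1, p.2.1, -p.2.2))

/-- The fundamental roots and their negatives. -/
def gens : List ℕ := [18, 14, 13, 12, 5, 9, 10, 11]

theorem okCol_all : ∀ r ∈ [18, 14, 5, 9], foldR r < 12 ∧ ∀ k < 14, okCol r k = true := by decide +kernel

/-- The certificate. -/
noncomputable abbrev c4 : Cert.{u} chevD4 := AllOK.cert.{u} allOKD4

theorem fold_gen {r : ℕ} (hr : r ∈ [18, 14, 5, 9]) (t : F) :
    res F * (((orb r).map fun x => c4.xu x t).prod : GL chevD4.Idx F).1 * inc F = chevG2.x F (foldR r) t := by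
  obtain ⟨hlt, hok⟩ := okCol_all r hr
  refine Matrix.ext_of_mulVec_single fun k => ?_
  have e : (Pi.single k 1 : chevG2.Idx → F) = bv chevG2 F (code chevG2 k) := by
    funext x
    by_cases h : x = k
    · subst h; simp [bv]
    · simp [bv, h, code_injective.ne h]
  rw [e]
  have h := hok _ (ltG k)
  simp only [okCol, Bool.and_eq_true] at h
  rw [← Matrix.mulVec_mulVec, ← Matrix.mulVec_mulVec, inc_bv t, ev_run c4 t _ _ h.1, res_ev t,
    ev_colL certG2.{u} (show foldR r < chevG2.nroots from hlt) (code_lt k)]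
  have h2 := ev_of_zeroSum (D := chevG2) t 400 _ h.2
  rw [ev_append, ev_neg, add_neg_eq_zero] at h2
  exact h2

/-! ### The homomorphism -/

/-- The twist by the diagram symmetry alone. -/
noncomputable def S (F : Type u) [Field F] : Twist (AllOK.cert.{u} allOKD4) F :=
  tD4 (RingHom.id F) fun _ => rfl

/-- The image of a coordinate under the symmetry. -/
def gc (c : ℕ) : ℕ := if c < 4 then gD4a.nodeF c else 4 + gD4a.rhoF (c - 4)

/-- The sign of a coordinate under the symmetry. -/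
def ec (c : ℕ) : ℤ := if c < 4 then 1 else gD4a.epsF (c - 4)

theorem gc_facts : ∀ c < 28, gc c < 28 ∧ gc (gc (gc c)) = c ∧ fc (gc c) = fc c ∧ sg (gc c) = ec c * sg c ∧
    ec c * ec c = 1 ∧ (sc (fc c) = c ∨ gc (sc (fc c)) = c ∨ gc (gc (sc (fc c))) = c) := by
  decide +kernel

theorem gMat_bv {c : ℕ} (hc : c < 28) : gMat chevD4 F gD4a *ᵥ bv chevD4 F c = (ec c : F) • bv chevD4 F (gc c) := by
  unfold gc ec
  split_ifs with h
  · have hn : ∀ c < 4, gD4a.nodeF c < 4 := by decide +kernel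
    rw [bv_hv (by rw [dims.1]; exact h), gMat_mulVec_hv gD4a (by rw [dims.1]; exact h),
      bv_hv (by rw [dims.1]; exact hn c h), Int.cast_one, one_smul]
  · obtain ⟨s, rfl⟩ : ∃ s, c = chevD4.rank + s := ⟨c - 4, by rw [dims.1]; omega⟩
    rw [bv_rv, gMat_mulVec_rv gD4a (by rw [dims.2.1]; rw [dims.1] at hc; omega), ← bv_rv,
      show chevD4.rank + s - 4 = s by rw [dims.1]; omega, dims.1]

theorem gMat_apply_mulVec (v : chevD4.Idx → F) {a b : chevD4.Idx} (h : code chevD4 a = gc (code chevD4 b)) :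
    (gMat chevD4 F gD4a *ᵥ v) a = (ec (code chevD4 b) : F) * v b := by
  have hrow : ∀ x, gMat chevD4 F gD4a a x = if x = b then (ec (code chevD4 b) : F) else 0 := by
    intro x
    have e : (Pi.single x 1 : chevD4.Idx → F) = bv chevD4 F (code chevD4 x) := by
      funext y
      by_cases h : y = x
      · subst h; simp [bv]
      · simp [bv, h, code_injective.ne h]
    have := congrFun (gMat_bv (F := F) (ltD x)) a
    rw [← e, Matrix.mulVec_single_one, Matrix.col_apply] at this
    rw [this, Pi.smul_apply, bv, smul_eq_mul]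
    by_cases hx : x = b
    · subst hx; rw [if_pos rfl, if_pos h, mul_one]
    · rw [if_neg hx, if_neg, mul_zero]
      intro e'
      refine hx (code_injective ?_)
      have e2 := congrArg (fun c => gc (gc c)) (e'.symm.trans h)
      simp only [(gc_facts _ (ltD x)).2.1, (gc_facts _ (ltD b)).2.1] at e2
      exact e2
  simp [Matrix.mulVec, dotProduct, hrow]

theorem gMat_inc : gMat chevD4 F gD4a * inc F = inc F := by
  refine Matrix.ext_of_mulVec_single fun k => ?_
  rw [← Matrix.mulVec_mulVec]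
  funext a
  obtain ⟨b, hb⟩ := existsD (gc_facts _ (gc_facts _ (ltD a)).1).1
  have hab : code chevD4 a = gc (code chevD4 b) := by rw [hb, (gc_facts _ (ltD a)).2.1]
  rw [gMat_apply_mulVec _ hab]
  obtain ⟨k', hk'⟩ := existsG (fc_lt _ (ltD a))
  rw [inc_mulVec _ hk'.symm, inc_mulVec _ (show fc (code chevD4 b) = code chevG2 k' by
    rw [hk', hab, (gc_facts _ (ltD b)).2.2.1]), ← mul_assoc, ← Int.cast_mul, hab, (gc_facts _ (ltD b)).2.2.2.1]

theorem sigma_coe {g : GL chevD4.Idx F} (hg : g ∈ (S F).fixed) :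
    gMat chevD4 F gD4a * g.1 = g.1 * gMat chevD4 F gD4a := by
  have h : (S F).sigma g = g := hg
  have h2 : gD4a_ok.{u}.unit (F := F) * Matrix.GeneralLinearGroup.map (RingHom.id F) g * (gD4a_ok.{u}.unit (F := F))⁻¹ = g := h
  rw [mul_inv_eq_iff_eq_mul] at h2
  have h3 := congrArg Units.val h2
  rw [Units.val_mul, Units.val_mul] at h3
  have e : ((Matrix.GeneralLinearGroup.map (RingHom.id F) g : GL chevD4.Idx F) : Matrix chevD4.Idx chevD4.Idx F) = g.1 := by
    ext i j; simp
  rw [e] at h3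
  exact h3

theorem sg_mul_fixed {v : chevD4.Idx → F} (hv : gMat chevD4 F gD4a *ᵥ v = v) {a b : chevD4.Idx}
    (h : code chevD4 a = gc (code chevD4 b)) :
    (sg (code chevD4 a) : F) * v a = (sg (code chevD4 b) : F) * v b := by
  have e := gMat_apply_mulVec v h
  rw [hv] at e
  rw [e, h, (gc_facts _ (ltD b)).2.2.2.1, Int.cast_mul]
  have h1 : (ec (code chevD4 b) : F) * (ec (code chevD4 b) : F) = 1 := by
    rw [← Int.cast_mul, (gc_facts _ (ltD b)).2.2.2.2.1, Int.cast_one]
  linear_combination ((sg (code chevD4 b) : F) * v b) * h1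

theorem inc_res {g : GL chevD4.Idx F} (hg : g ∈ (S F).fixed) : inc F * res F * (g.1 * inc F) = g.1 * inc F := by
  have hgi : gMat chevD4 F gD4a * (g.1 * inc F) = g.1 * inc F := by
    rw [← Matrix.mul_assoc, sigma_coe hg, Matrix.mul_assoc, gMat_inc]
  refine Matrix.ext_of_mulVec_single fun k => ?_
  have hv : gMat chevD4 F gD4a *ᵥ ((g.1 * inc F) *ᵥ Pi.single k 1) = (g.1 * inc F) *ᵥ Pi.single k 1 := by
    rw [Matrix.mulVec_mulVec, hgi]
  rw [← Matrix.mulVec_mulVec]
  generalize (g.1 * inc F) *ᵥ Pi.single k 1 = v at hv ⊢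
  funext a
  obtain ⟨k', hk'⟩ := existsG (fc_lt _ (ltD a))
  obtain ⟨b, hb⟩ := existsD (fc_sc _ (ltG k')).2
  rw [← Matrix.mulVec_mulVec, inc_mulVec _ hk'.symm, res_mulVec _ hb]
  rw [hk'] at hb
  have key : (sg (code chevD4 b) : F) * v b = (sg (code chevD4 a) : F) * v a := by
    rcases (gc_facts _ (ltD a)).2.2.2.2.2 with e | e | e
    · rw [e] at hb; rw [code_injective hb]
    · exact (sg_mul_fixed hv (by rw [hb, e])).symm
    · obtain ⟨c, hc⟩ := existsD (gc_facts _ (ltD b)).1
      rw [← sg_mul_fixed hv (a := c) (b := b) hc, ← sg_mul_fixed hv (a := a) (b := c) (by rw [hc, hb, e])]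
  rw [key, ← mul_assoc, sgF_sq _ (ltD a), one_mul]

/-- The action on the fixed vectors. -/
noncomputable def hom (F : Type u) [Field F] : ↥(S F).small →* GL chevG2.Idx F :=
  MonoidHom.toHomUnits
    { toFun := fun g => res F * g.1.1 * inc F
      map_one' := by simp [res_inc]
      map_mul' := fun g h => by
        simp only [Subgroup.coe_mul, Units.val_mul, Matrix.mul_assoc]
        rw [← Matrix.mul_assoc (inc F) (res F), inc_res ((S F).small_le_fixed h.2)] }

theorem coe_hom (g : ↥(S F).small) : ((hom F g : GL chevG2.Idx F) : Matrix chevG2.Idx chevG2.Idx F) =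
    res F * g.1.1 * inc F := rfl

theorem valid (r : ℕ) (t : F) : (S F).Valid r t := by
  unfold Twist.Valid
  exact Function.iterate_fixed rfl _

theorem rep_facts : ∀ r ∈ [18, 14, 5, 9], r < 24 ∧ gD4a.rhoF r < 24 ∧ gD4a.epsF r = 1 ∧
    gD4a.epsF (gD4a.rhoF r) = 1 ∧ gD4a.per r = if gD4a.rhoF r = r then 1 else 3 := by decide +kernel

theorem oe_orb {r : ℕ} (hr : r ∈ [18, 14, 5, 9]) (t : F) :
    (S F).oe r t = ((orb r).map fun x => c4.xu x t).prod := by
  obtain ⟨h24, h24', he, he', hper⟩ := rep_facts r hr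
  have hr' : r < chevD4.nroots := by rw [dims.2.1]; exact h24
  have hr'' : gD4a.rhoF r < chevD4.nroots := by rw [dims.2.1]; exact h24'
  unfold orb Twist.oe
  show ((List.range (gD4a.per r)).map _).prod = _
  rw [hper]
  split_ifs with h
  · simp
  · have h1 : (S F).sigma (c4.xu r t) = c4.xu (gD4a.rhoF r) t := by
      rw [(S F).sigma_xu hr']
      show c4.xu (gD4a.rhoF r) (((gD4a.epsF r : ℤ) : F) * t) = _
      rw [he, Int.cast_one, one_mul]
    have h2 : (S F).sigma (c4.xu (gD4a.rhoF r) t) = c4.xu (gD4a.rhoF (gD4a.rhoF r)) t := by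
      rw [(S F).sigma_xu hr'']
      show c4.xu (gD4a.rhoF (gD4a.rhoF r)) (((gD4a.epsF (gD4a.rhoF r) : ℤ) : F) * t) = _
      rw [he', Int.cast_one, one_mul]
    rw [show (List.range 3) = [0, 1, 2] from rfl]
    show c4.xu r t * ((S F).sigma (c4.xu r t) * ((S F).sigma ((S F).sigma (c4.xu r t)) * 1)) =
      c4.xu r t * (c4.xu _ t * (c4.xu _ t * 1))
    rw [h1, h2]

theorem hom_oe {r : ℕ} (hr : r ∈ [18, 14, 5, 9]) (t : F) (h : (S F).oe r t ∈ (S F).small) :
    hom F ⟨(S F).oe r t, h⟩ = certG2.xu (foldR r) t := by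
  refine Units.ext ?_
  rw [coe_hom, Cert.coe_xu]
  show res F * ((S F).oe r t).1 * inc F = _
  rw [oe_orb hr, fold_gen hr]

theorem hom_range : (hom F).range = chevG2.group F := by
  have hrep : ∀ j < 4, ∃ i < 2, j ∈ gD4a.ow i := by decide +kernel
  have hs : chevD4.simple 0 = 18 ∧ chevD4.simple 1 = 14 ∧ chevD4.neg 18 = 5 ∧ chevD4.neg 14 = 9 := by decide +kernel
  have hr : ∀ i < 2, chevD4.simple i ∈ [18, 14, 5, 9] ∧ chevD4.neg (chevD4.simple i) ∈ [18, 14, 5, 9] := by
    decide +kernel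
  refine le_antisymm ?_ ?_
  · have hle : (S F).small ≤ Subgroup.closure {g | ∃ r ∈ [18, 14, 5, 9], ∃ t : F, g = (S F).oe r t} := by
      refine (S F).small_le_of_reps (R := [0, 1]) ?_ ?_
      · show ∀ j < 4, ∃ i ∈ [0, 1], i < 4 ∧ j ∈ gD4a.ow i
        decide +kernel
      intro i hi t _
      have hi2 : i < 2 := by
        simp only [List.mem_cons, List.not_mem_nil, or_false] at hi
        omega
      exact ⟨Subgroup.subset_closure ⟨_, (hr i hi2).1, t, rfl⟩, Subgroup.subset_closure ⟨_, (hr i hi2).2, t, rfl⟩⟩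
    have hge : Subgroup.closure {g | ∃ r ∈ [18, 14, 5, 9], ∃ t : F, g = (S F).oe r t} ≤ (S F).small := by
      refine (Subgroup.closure_le _).mpr ?_
      rintro _ ⟨r, hr', t, rfl⟩
      simp only [List.mem_cons, List.not_mem_nil, or_false] at hr'
      rcases hr' with rfl | rfl | rfl | rfl
      · exact hs.1 ▸ (S F).oe_simple_mem (show 0 < chevD4.rank by decide +kernel) (valid _ t)
      · exact hs.2.1 ▸ (S F).oe_simple_mem (show 1 < chevD4.rank by decide +kernel) (valid _ t)
      · exact hs.2.2.1 ▸ hs.1 ▸ (S F).oe_neg_simple_mem (show 0 < chevD4.rank by decide +kernel) (valid _ t)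
      · exact hs.2.2.2 ▸ hs.2.1 ▸ (S F).oe_neg_simple_mem (show 1 < chevD4.rank by decide +kernel) (valid _ t)
    refine range_le_of_closure (le_antisymm hle hge) (hom F) _ ?_
    rintro _ ⟨r, hr', t, rfl⟩ hx
    exact (congrArg (· ∈ chevG2.group F) (hom_oe hr' t hx)).mpr (certG2.xu_mem_group _ _)
  · have key : ∀ j < 2, ∃ i < 2, foldR (chevD4.simple i) = chevG2.simple j ∧
        foldR (chevD4.neg (chevD4.simple i)) = chevG2.neg (chevG2.simple j) := by decide +kernel
    have hx : ∀ j < chevG2.rank, ∀ t : F, certG2.xu (chevG2.simple j) t ∈ (hom F).range ∧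
        certG2.xu (chevG2.neg (chevG2.simple j)) t ∈ (hom F).range := by
      intro j hj t
      obtain ⟨i, hi, e1, e2⟩ := key j hj
      have hi' : i < chevD4.rank := by rw [dims.1]; omega
      refine ⟨?_, ?_⟩
      · rw [← e1, ← hom_oe (hr i hi).1 t ((S F).oe_simple_mem hi' (valid _ _))]
        exact ⟨_, rfl⟩
      · rw [← e2, ← hom_oe (hr i hi).2 t ((S F).oe_neg_simple_mem hi' (valid _ _))]
        exact ⟨_, rfl⟩
    rw [certG2.group_eq_closure, Subgroup.closure_le]
    rintro g ⟨r, hr, t, rfl⟩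
    refine certG2.xu_mem_of_simple (fun j hj v => (hx j hj v).1) (fun j hj => ?_) hr t
    rw [certG2.nu_eq]
    exact mul_mem (mul_mem (hx j hj _).1 (hx j hj _).2) (hx j hj _).1

/-! ### The kernel -/

/-- The elements stretching the highest root vector. -/
def lineStab (F : Type u) [Field F] : Subgroup (GL chevD4.Idx F) where
  carrier := {g | ∃ c : F, c ≠ 0 ∧ g.1 *ᵥ rv chevD4 F 23 = c • rv chevD4 F 23}
  one_mem' := ⟨1, one_ne_zero, by simp⟩
  mul_mem' := by
    rintro a b ⟨c, hc, ha⟩ ⟨d, hd, hb⟩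
    refine ⟨d * c, mul_ne_zero hd hc, ?_⟩
    rw [Units.val_mul, ← Matrix.mulVec_mulVec, hb, Matrix.mulVec_smul, ha, smul_smul]
  inv_mem' := by
    rintro a ⟨c, hc, ha⟩
    refine ⟨c⁻¹, inv_ne_zero hc, ?_⟩
    have h := congrArg (fun v => c⁻¹ • ((a⁻¹ : GL chevD4.Idx F).1 *ᵥ v)) ha
    simp only [Matrix.mulVec_smul, Matrix.mulVec_mulVec, smul_smul, inv_mul_cancel₀ hc, one_smul] at h
    rw [← Units.val_mul, inv_mul_cancel, Units.val_one, Matrix.one_mulVec] at h
    exact h.symm

theorem borel_le_lineStab : chevD4.borelSubgroup F ≤ lineStab F := by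
  have htop : ∀ r < 24, chevD4.IsPosRoot r → r = 23 ∨ (23 ≠ r ∧ 23 ≠ chevD4.neg r ∧ chevD4.chainEntry r 23 = []) := by
    unfold ChevalleyDatum.IsPosRoot
    decide +kernel
  refine sup_le ((Subgroup.closure_le _).mpr ?_) fun g hg => ?_
  · rintro g ⟨r, t, hr, hg⟩
    refine ⟨1, one_ne_zero, ?_⟩
    rw [hg, one_smul]
    rcases htop r (by rw [← dims.2.1]; exact hr.1) hr with rfl | ⟨h1, h2, h3⟩
    · exact x_mulVec_rv_self hr.1 t
    · rw [c4.x_mulVec_rv hr.1 (show 23 < chevD4.nroots by decide +kernel) h1 h2, h3]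
      simp
  · obtain ⟨χ, -, hne, e⟩ := c4.diagonal_char hg
    refine ⟨χ 23, hne 23, ?_⟩
    rw [e]
    funext x
    rw [dMat, Matrix.mulVec_diagonal, Pi.smul_apply, smul_eq_mul]
    rcases x with k | k
    · simp [rv]
    · by_cases hk : (k : ℕ) = 23 <;> simp [rv, hk]

theorem hom_injective : Function.Injective (hom F) := by
  obtain ⟨pa, hpa⟩ := exists_tree (D := chevD4) (by simp)
  refine (MonoidHom.ker_eq_bot_iff _).mp ?_
  by_contra hbot
  have hsup := TwistNormal.small_le_sup (S F) coxD4 (D4_torusOK _ _) hpa (MonoidHom.normal_ker _) hbot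
  have h1 : (1 : ℕ) < chevD4.rank := by decide +kernel
  have hs : chevD4.neg (chevD4.simple 1) = 9 := by decide +kernel
  obtain ⟨m, hm, b, hb, e⟩ := hsup ⟨(S F).oe 9 (1 : F), hs ▸ (S F).oe_neg_simple_mem h1 (valid _ _)⟩
  have he : hom F b = certG2.xu (foldR 9) (1 : F) := by
    rw [← hom_oe (show 9 ∈ [18, 14, 5, 9] by simp) (1 : F) (hs ▸ (S F).oe_neg_simple_mem h1 (valid _ _)), ← e,
      map_mul, MonoidHom.mem_ker.mp hm, one_mul]
  have hval := congrArg (fun M => M.1 *ᵥ bv chevG2 F 13) he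
  obtain ⟨c, -, hc⟩ := borel_le_lineStab hb
  have hinc : inc F *ᵥ bv chevG2 F 13 = (sg 27 : F) • rv chevD4 F 23 := by
    rw [inc_bv (1 : F) 13, show preL 13 = [(27, 0, sg 27)] by decide +kernel, ev_cons, ev_nil, add_zero,
      show (27 : ℕ) = chevD4.rank + 23 by decide +kernel, bv_rv]
    simp
  have hres : res F *ᵥ rv chevD4 F 23 = (sg 27 : F) • bv chevG2 F 13 := by
    rw [← bv_rv, show chevD4.rank + 23 = 27 by decide +kernel, res_bv, if_pos (by decide +kernel),
      show fc 27 = 13 by decide +kernel]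
  simp only [coe_hom, Cert.coe_xu] at hval
  rw [← Matrix.mulVec_mulVec, ← Matrix.mulVec_mulVec, hinc, Matrix.mulVec_smul, Matrix.mulVec_smul, hc,
    Matrix.mulVec_smul, hres, smul_smul, smul_smul,
    ev_colL certG2.{u} (show foldR 9 < chevG2.nroots by decide +kernel) (show 13 < chevG2.rank + chevG2.nroots by
      decide +kernel)] at hval
  obtain ⟨x, hx⟩ := existsG (show 12 < 14 by norm_num)
  have hcol : colL chevG2 (foldR 9) 13 = [(13, 0, 1), (12, 1, 1)] := by decide +kernel
  have := congrFun hval x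
  rw [hcol] at this
  simp [ev, bv, hx] at this

theorem nonempty_smallIso : Nonempty (↥(S F).small ≃* ↥(chevG2.group F)) :=
  ⟨((hom F).ofInjective hom_injective).trans (MulEquiv.subgroupCongr hom_range)⟩

/-! ### The graph automorphism -/

theorem diagram_cases : ∀ π : Fin 4 → Fin 4, Function.Injective π →
    (∀ i j : Fin 4, i ≠ j → chevD4.bonds (π i) (π j) = chevD4.bonds i j) →
      (∀ i, π (π i) = i) ∨ (∀ i : Fin 4, (π i : ℕ) = gD4a.nodeF i) ∨ ∀ i : Fin 4, (π (π i) : ℕ) = gD4a.nodeF i := by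
  decide +kernel

theorem gen_induction {P : ↥(chevD4.group F) → Prop}
    (hx : ∀ i : Fin chevD4.rank, ∀ t : F, P ⟨_, c4.xu_mem_group (chevD4.simple i) t⟩ ∧
      P ⟨_, c4.xu_mem_group (chevD4.neg (chevD4.simple i)) t⟩)
    (h1 : P 1) (hm : ∀ x y, P x → P y → P (x * y)) (hi : ∀ x, P x → P x⁻¹) (g : ↥(chevD4.group F)) : P g := by
  let H : Subgroup (GL chevD4.Idx F) :=
    { carrier := {g | ∃ h : g ∈ chevD4.group F, P ⟨g, h⟩}
      one_mem' := ⟨one_mem _, h1⟩
      mul_mem' := fun ⟨ha, pa⟩ ⟨hb, pb⟩ => ⟨mul_mem ha hb, hm _ _ pa pb⟩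
      inv_mem' := fun ⟨ha, pa⟩ => ⟨inv_mem ha, hi _ pa⟩ }
  have hle : chevD4.group F ≤ H := by
    have hx' : ∀ i < chevD4.rank, ∀ t : F, c4.xu (chevD4.simple i) t ∈ H ∧
        c4.xu (chevD4.neg (chevD4.simple i)) t ∈ H := fun i hi t =>
      ⟨⟨_, (hx ⟨i, hi⟩ t).1⟩, ⟨_, (hx ⟨i, hi⟩ t).2⟩⟩
    rw [c4.group_eq_closure, Subgroup.closure_le]
    rintro g ⟨r, hr, t, rfl⟩
    refine c4.xu_mem_of_simple (fun j hj v => (hx' j hj v).1) (fun j hj => ?_) hr t
    rw [c4.nu_eq]
    exact mul_mem (mul_mem (hx' j hj _).1 (hx' j hj _).2) (hx' j hj _).1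
  obtain ⟨_, hg⟩ := hle g.2
  exact hg

/-- An automorphism moves the fundamental root elements like a map of nodes. -/
def Moves (φ : MulAut ↥(chevD4.group F)) (f : Fin chevD4.rank → ℕ) : Prop :=
  ∀ (i : Fin chevD4.rank) (t : F),
    (φ ⟨_, c4.xu_mem_group (chevD4.simple i) t⟩ : GL chevD4.Idx F) = c4.xu (chevD4.simple (f i)) t ∧
    (φ ⟨_, c4.xu_mem_group (chevD4.neg (chevD4.simple i)) t⟩ : GL chevD4.Idx F) =
      c4.xu (chevD4.neg (chevD4.simple (f i))) t

theorem Moves.sq {φ : MulAut ↥(chevD4.group F)} {π : Fin chevD4.rank → Fin chevD4.rank}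
    (h : Moves φ fun i => π i) : Moves (φ ^ 2) fun i => π (π i) := by
  intro i t
  rw [pow_two, MulAut.mul_apply, MulAut.mul_apply]
  refine ⟨?_, ?_⟩
  · rw [show φ ⟨_, c4.xu_mem_group (chevD4.simple i) t⟩ = ⟨_, c4.xu_mem_group (chevD4.simple (π i)) t⟩ from
      Subtype.ext (h i t).1]
    exact (h (π i) t).1
  · rw [show φ ⟨_, c4.xu_mem_group (chevD4.neg (chevD4.simple i)) t⟩ =
      ⟨_, c4.xu_mem_group (chevD4.neg (chevD4.simple (π i))) t⟩ from Subtype.ext (h i t).2]
    exact (h (π i) t).2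

theorem Moves.eq_one {φ : MulAut ↥(chevD4.group F)} {f : Fin chevD4.rank → ℕ} (h : Moves φ f)
    (hf : ∀ i, f i = i) : φ = 1 := by
  refine MulEquiv.ext fun g => ?_
  show φ g = g
  revert g
  refine gen_induction (fun i t => ?_) (map_one φ) (fun x y hx hy => by rw [map_mul, hx, hy])
    (fun x hx => by rw [map_inv, hx])
  exact ⟨Subtype.ext (by rw [(h i t).1, hf]), Subtype.ext (by rw [(h i t).2, hf])⟩

theorem Moves.eq_sigma {φ : MulAut ↥(chevD4.group F)} {f : Fin chevD4.rank → ℕ} (h : Moves φ f)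
    (hf : ∀ i, f i = gD4a.nodeF i) :
    ∀ g : ↥(chevD4.group F), ((φ g : ↥(chevD4.group F)) : GL chevD4.Idx F) = (S F).sigma g := by
  refine gen_induction (fun i t => ?_) (by simp) (fun x y hx hy => by rw [map_mul, Subgroup.coe_mul, hx, hy,
    Subgroup.coe_mul, map_mul]) (fun x hx => by rw [map_inv, Subgroup.coe_inv, hx, Subgroup.coe_inv, map_inv])
  refine ⟨?_, ?_⟩
  · rw [(h i t).1, hf i]
    exact ((S F).sigma_xu_simple i.isLt t).symm
  · rw [(h i t).2, hf i]
    exact ((S F).sigma_xu_neg_simple i.isLt t).symm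

theorem fixed_iso {φ : MulAut ↥(chevD4.group F)}
    (hφσ : ∀ g : ↥(chevD4.group F), ((φ g : ↥(chevD4.group F)) : GL chevD4.Idx F) = (S F).sigma g) :
    Nonempty (↥(MonoidHom.eqLocus φ.toMonoidHom (MonoidHom.id ↥(chevD4.group F))) ≃* ↥(chevG2.group F)) := by
  have hsmall : (S F).small = chevD4.group F ⊓ (S F).fixed := (S F).small_eq coxD4 (D4_torusOK _ _)
  obtain ⟨e⟩ := nonempty_smallIso (F := F)
  refine ⟨MulEquiv.trans ?_ e⟩
  exact
    { toFun := fun g => ⟨(g.1 : GL chevD4.Idx F), hsmall ▸ Subgroup.mem_inf.mpr ⟨g.1.2,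
        show (S F).sigma _ = _ by rw [← hφσ]; exact congrArg Subtype.val g.2⟩⟩
      invFun := fun g => ⟨⟨g.1, (S F).small_le_group g.2⟩, Subtype.ext ((hφσ _).trans
        ((S F).small_le_fixed g.2))⟩
      left_inv := fun g => rfl
      right_inv := fun g => rfl
      map_mul' := fun g h => rfl }

theorem main (φ : MulAut ↥(chevD4.group F)) (hφ : chevD4.IsGraphAut φ) (h3 : orderOf φ = 3) :
    Nonempty (↥(MonoidHom.eqLocus φ.toMonoidHom (MonoidHom.id ↥(chevD4.group F))) ≃* ↥(chevG2.group F)) := by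
  obtain ⟨π, hπ, hgen⟩ := hφ
  have hexp : ∀ (c : ℕ) (i j : Fin chevD4.rank), chevD4.graphExp c i j = 1 := by
    intro c i j
    have hl : ∀ j < 4, chevD4.isLong (chevD4.simple j) = false := by decide +kernel
    simp [ChevalleyDatum.graphExp, hl j j.isLt]
  have hmv : Moves φ fun i => π i := fun i t => by
    refine ⟨Units.ext ?_, Units.ext ?_⟩
    · rw [(hgen ⟨_, c4.xu_mem_group _ t⟩ i t).1 (c4.coe_xu _ _), hexp, pow_one]
      exact (c4.coe_xu _ _).symm
    · rw [(hgen ⟨_, c4.xu_mem_group _ t⟩ i t).2 (c4.coe_xu _ _), hexp, pow_one]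
      exact (c4.coe_xu _ _).symm
  rcases diagram_cases (fun i => π i) π.injective hπ with h | h | h
  · have h2 : φ ^ 2 = 1 := hmv.sq.eq_one fun i => congrArg Fin.val (h i)
    have := orderOf_dvd_of_pow_eq_one h2
    rw [h3] at this
    norm_num at this
  · exact fixed_iso (hmv.eq_sigma h)
  · have h3' : φ ^ 3 = 1 := h3 ▸ pow_orderOf_eq_one φ
    have e : MonoidHom.eqLocus φ.toMonoidHom (MonoidHom.id ↥(chevD4.group F)) =
        MonoidHom.eqLocus (φ ^ 2).toMonoidHom (MonoidHom.id ↥(chevD4.group F)) := by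
      ext g
      constructor
      · intro hg
        have hg' : φ g = g := hg
        show (φ ^ 2) g = g
        rw [pow_two, MulAut.mul_apply, hg', hg']
      · intro hg
        have hg' : (φ ^ 2) g = g := hg
        show φ g = g
        have : (φ ^ 3) g = g := by rw [h3']; rfl
        rwa [pow_succ', MulAut.mul_apply, hg'] at this
    rw [e]
    exact fixed_iso (hmv.sq.eq_sigma h)

end Cfsg.Agent.LeadWork.D4Fold
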