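import Cfsg.Agent.Chars2.ItoSolvable
import Cfsg.Agent.Core.PiSeparable
import Cfsg.Agent.Coprime.Action
import Cfsg.Agent.FGS2.Basic

/-!
Ito's theorem on character degrees of `p`-solvable groups.
-/

set_option autoImplicit false
set_option linter.style.haveILetI false
set_option linter.unusedSectionVars false
set_option linter.unusedVariables false

namespace Cfsg.Agent.LeadWork.Ito

open Cfsg Cfsg.Agent

universe u

variable {G : Type u} [Group G] [Finite G] {p : ℕ} [hp : Fact p.Prime]

/-- If all degrees are prime to `p`, every character of a normal subgroup of `p`-power index is invariant. -/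
theorem invariant_of_pindex (N : Subgroup G) [N.Normal] {k : ℕ} (hk : N.index = p ^ k)
    (hdeg : ∀ χ : IrrCharacter G, ¬ p ∣ charDegree (χ : G → ℂ)) {θ : N → ℂ}
    (hθ : IsIrrCharacter N θ) (g : G) (n : N) :
    θ ⟨g * n * g⁻¹, ‹N.Normal›.conj_mem (n : G) n.2 g⟩ = θ n := by
  classical
  haveI := Fintype.ofFinite G
  haveI : Fintype N := Fintype.ofFinite _
  have hind := Chars.isCharacter_indFun N (Chars.isCharacter_of_isIrr hθ)
  obtain ⟨c, hc⟩ := Chars2.exists_multiplicities hind
  obtain ⟨χ, hχ⟩ : ∃ χ, c χ ≠ 0 := by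
    by_contra hall
    push Not at hall
    have h := Chars2.apply_eq_sum (Chars.isClassFunction_of_isCharacter hind) 1
    simp only [hc, hall, Nat.cast_zero, zero_mul, Finset.sum_const_zero,
      Chars.indFun_apply_one] at h
    exact mul_ne_zero (Nat.cast_ne_zero.2 N.index_ne_zero_of_finite)
      (Chars.irr_apply_one_ne_zero hθ) h
  obtain ⟨m, hm⟩ := Chars.exists_classInner_eq_nat
    (Chars.isCharacter_restrict (Chars.irr_isCharacter χ) N) (Chars.isCharacter_of_isIrr hθ)
  have hm0 : classInner (fun n : N => (χ : G → ℂ) n) θ ≠ 0 := by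
    intro h0
    have h1 := hc χ
    rw [Chars.classInner_indFun N _ (Chars.isClassFunction_irr χ),
      ← Chars.classInner_conj_symm, h0, map_zero] at h1
    exact hχ (by exact_mod_cast h1.symm)
  have h := Chars2.clifford_degree χ.2 hθ hm0
  rw [hm, (Blocks.charDegree_eq χ.2).1, (Blocks.charDegree_eq hθ).1] at h
  have hd : (Chars2.inertiaSub θ).index ∣ charDegree (χ : G → ℂ) :=
    ⟨m * charDegree θ, by rw [← mul_assoc]; exact_mod_cast h⟩
  have hle : N ≤ Chars2.inertiaSub θ :=
    Chars2.le_inertiaSub (Chars.isClassFunction_of_isCharacter (Chars.isCharacter_of_isIrr hθ))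
  have hd2 : (Chars2.inertiaSub θ).index ∣ p ^ k := hk ▸ Subgroup.index_dvd_of_le hle
  obtain ⟨j, hj, hje⟩ := (Nat.dvd_prime_pow hp.out).mp hd2
  have hj0 : j = 0 := by
    by_contra h0
    exact hdeg χ ((dvd_pow_self p h0).trans (hje ▸ hd))
  rw [hj0, pow_zero, Subgroup.index_eq_one] at hje
  have hg : g⁻¹ ∈ Chars2.inertiaSub θ := hje ▸ Subgroup.mem_top _
  rw [Chars2.mem_inertiaSub, funext_iff] at hg
  have h1 := hg n
  rw [Chars2.conjFun_apply] at h1
  simpa using h1

/-- A `p`-group fixing every character of a normal `p'`-group centralizes it. -/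
theorem centralize_of_invariant {N P : Subgroup G} [N.Normal] (hP : IsPGroup p P)
    (hcop : (Nat.card P).Coprime (Nat.card N))
    (hinv : ∀ θ : N → ℂ, IsIrrCharacter N θ → ∀ a ∈ P, ∀ n : N,
      θ ⟨a * n * a⁻¹, ‹N.Normal›.conj_mem (n : G) n.2 a⟩ = θ n) :
    N ≤ Subgroup.centralizer (P : Set G) := by
  classical
  haveI : Fintype N := Fintype.ofFinite _
  haveI := hP.isNilpotent
  haveI : Group.IsSolvable P := inferInstance
  -- every class of `N` is `P`-invariant
  have hcls : ∀ a ∈ P, ∀ x : N, IsConj (⟨a * x * a⁻¹, ‹N.Normal›.conj_mem (x : G) x.2 a⟩ : N) x := by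
    intro a ha x
    by_contra hne
    set y : N := ⟨a * x * a⁻¹, ‹N.Normal›.conj_mem (x : G) x.2 a⟩ with hy
    let f : N → ℂ := fun z => (if IsConj z x then 1 else 0) - (if IsConj z y then 1 else 0)
    have hiff : ∀ w z b : N, IsConj (b * z * b⁻¹) w ↔ IsConj z w := fun w z b => by
      have e : IsConj z (b * z * b⁻¹) := isConj_iff.2 ⟨b, rfl⟩
      exact ⟨e.trans, e.symm.trans⟩
    have hf : IsClassFunction N f := by
      intro z b
      simp only [f, hiff]
    have hz : f = 0 := by
      refine Chars.eq_zero_of_classInner_irr hf fun ψ hψ => ?_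
      rw [Chars.classInner_def]
      simp only [f, sub_mul, Finset.sum_sub_distrib, mul_sub, sub_eq_zero]
      congr 1
      let e : N ≃* N := MulAut.conjNormal a
      refine Fintype.sum_equiv e.toEquiv _ _ fun z => ?_
      have he : (e.toEquiv z) = ⟨a * z * a⁻¹, ‹N.Normal›.conj_mem (z : G) z.2 a⟩ :=
        Subtype.ext (MulAut.conjNormal_apply a z)
      have hey : e x = y := Subtype.ext (MulAut.conjNormal_apply a x)
      have hc : IsConj (e z) y ↔ IsConj z x := by
        rw [← hey]
        refine ⟨fun h => ?_, fun h => e.toMonoidHom.map_isConj h⟩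
        simpa using e.symm.toMonoidHom.map_isConj h
      simp only [MulEquiv.toEquiv_eq_coe, EquivLike.coe_coe] at he ⊢
      rw [if_congr hc rfl rfl, he, hinv ψ hψ a ha z]
    have h1 := congrFun hz x
    simp only [f, IsConj.refl, if_true, Pi.zero_apply] at h1
    rw [if_neg (fun h => hne h.symm), sub_zero] at h1
    exact one_ne_zero h1
  -- so every class meets the centralizer
  set H : Subgroup N := (Subgroup.centralizer (P : Set G)).subgroupOf N with hH
  have hmeet : ∀ x : N, ∃ g : N, g * x * g⁻¹ ∈ H := by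
    intro x
    obtain ⟨y, hy, hyc⟩ := Coprime.exists_conj_le (N := N) (A := P)
      (S := Subgroup.centralizer ({(x : G)} : Set G))
      (by rw [Subgroup.normalizer_eq_top_iff.mpr ‹N.Normal›]; exact le_top) hcop
      (fun a ha => by
        obtain ⟨c, hc⟩ := isConj_iff.1 (hcls a ha x)
        refine ⟨c, c.2, ?_⟩
        have h2 : (c : G) * (a * x * a⁻¹) * (c : G)⁻¹ = x := congrArg Subtype.val hc
        rw [Subgroup.mem_centralizer_singleton_iff]
        calc ((c : G) * a) * x = (c * (a * x * a⁻¹) * (c : G)⁻¹) * (c * a) := by group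
          _ = x * (c * a) := by rw [h2])
    refine ⟨⟨y, hy⟩⁻¹, ?_⟩
    rw [hH, Subgroup.mem_subgroupOf, Subgroup.mem_centralizer_iff]
    intro a ha
    have h2 := Subgroup.mem_centralizer_singleton_iff.mp (hyc a ha)
    simp only [inv_inv, Subgroup.coe_mul, Subgroup.coe_inv]
    calc a * (y⁻¹ * x * y) = y⁻¹ * ((y * a * y⁻¹) * x) * y := by group
      _ = y⁻¹ * (x * (y * a * y⁻¹)) * y := by rw [h2]
      _ = y⁻¹ * x * y * a := by group
  have htop : H = ⊤ := FGS2.eq_top_of_forall_conj_mem H fun x => by
    obtain ⟨g, hg⟩ := hmeet x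
    exact ⟨g⁻¹, by rwa [inv_inv]⟩
  intro x hx
  exact Subgroup.mem_subgroupOf.mp (htop ▸ Subgroup.mem_top (⟨x, hx⟩ : N) : (⟨x, hx⟩ : N) ∈ H)

/-- Ito: the inductive step for `p`-solvable groups. -/
theorem ito_pSolvable : ∀ (n : ℕ) (G : Type u) [Group G] [Finite G],
    Nat.card G ≤ n → IsPSolvable p G →
    (∀ χ : IrrCharacter G, ¬ p ∣ charDegree (χ : G → ℂ)) →
    ∃ P : Subgroup G, P.Normal ∧ (∀ x ∈ P, ∀ y ∈ P, x * y = y * x) ∧ IsPGroup p P ∧ ¬ p ∣ P.index := by
  intro n
  induction n with
  | zero => intro G _ _ hle; exact absurd hle (not_le.2 Nat.card_pos)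
  | succ n ih =>
    intro G _ _ hle hs hdeg
    by_cases hG : Nontrivial G
    swap
    · haveI : Subsingleton G := not_nontrivial_iff_subsingleton.1 hG
      refine ⟨⊥, inferInstance, fun x _ y _ => Subsingleton.elim _ _, IsPGroup.of_bot, ?_⟩
      rw [Subgroup.index_bot, Nat.card_of_subsingleton (1 : G)]
      exact hp.out.not_dvd_one
    obtain ⟨N, hNn, hNne, hNty⟩ : ∃ N : Subgroup G, N.Normal ∧ N ≠ ⊥ ∧
        ((∀ a ∈ N, ∀ b ∈ N, a * b = b * a) ∨ (Nat.card N).Coprime p) := by
      rcases Core.piCore_ne_bot_or (Core.isPiSeparable_of_isPSolvable hs) with h | h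
      · rw [← Core.pCore_eq_piCore] at h
        haveI : Nontrivial (pCore p G) := (Subgroup.nontrivial_iff_ne_bot _).mpr h
        have hc := (Core.isPGroup_pCore p G).center_nontrivial
        refine ⟨(Subgroup.center (pCore p G)).map (pCore p G).subtype,
          Core.normal_map_subtype_of_characteristic _, ?_, Or.inl ?_⟩
        · rw [Ne, Subgroup.map_eq_bot_iff_of_injective _ (pCore p G).subtype_injective]
          exact (Subgroup.nontrivial_iff_ne_bot _).mp hc
        · rintro _ ⟨a, ha, rfl⟩ _ ⟨b, hb, rfl⟩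
          rw [← map_mul, ← map_mul, Subgroup.mem_center_iff.mp hb a]
      · rw [← Core.pPrimeCore_eq_piCore] at h
        exact ⟨_, inferInstance, h, Or.inr (Core.card_pPrimeCore_coprime p G)⟩
    haveI := hNn
    have hN1 : 1 < Nat.card N := (Finite.one_lt_card_iff_nontrivial).2
      ((Subgroup.nontrivial_iff_ne_bot N).2 hNne)
    have hlt : Nat.card (G ⧸ N) ≤ n := by
      have h := N.card_mul_index
      rw [Subgroup.index_eq_card] at h
      have h2 : Nat.card (G ⧸ N) * 2 ≤ Nat.card G := by
        rw [← h, mul_comm]; exact Nat.mul_le_mul_right _ hN1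
      have h3 : 0 < Nat.card (G ⧸ N) := Nat.card_pos
      omega
    obtain ⟨Q, hQn, hQab, hQp, hQi⟩ := ih (G ⧸ N) hlt (Core.isPSolvable_quotient hs N) fun θ => by
      obtain ⟨χ, hχ⟩ :=
        Chars2.exists_degree_eq_of_surjective (QuotientGroup.mk' N) (QuotientGroup.mk'_surjective N) θ
      exact hχ ▸ hdeg χ
    set M := Q.comap (QuotientGroup.mk' N) with hM
    haveI : M.Normal := Subgroup.normal_comap _
    have hMi : ¬ p ∣ M.index := by
      rwa [hM, Subgroup.index_comap_of_surjective _ (QuotientGroup.mk'_surjective N)]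
    by_cases hMtop : M = ⊤
    · have hQtop : Q = ⊤ := by
        rw [← Subgroup.map_comap_eq_self_of_surjective (QuotientGroup.mk'_surjective N) Q, ← hM,
          hMtop, Subgroup.map_top_of_surjective _ (QuotientGroup.mk'_surjective N)]
      have hQG : IsPGroup p (G ⧸ N) := IsPGroup.of_equiv hQp
        ((MulEquiv.subgroupCongr hQtop).trans Subgroup.topEquiv)
      obtain ⟨k, hk⟩ := IsPGroup.iff_card.1 hQG
      rw [← Subgroup.index_eq_card] at hk
      obtain ⟨P⟩ : Nonempty (Sylow p G) := inferInstance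
      rcases hNty with hab | hcop
      · have hone : ∀ χ : IrrCharacter G, charDegree (χ : G → ℂ) = 1 := by
          intro χ
          have hdvd : charDegree (χ : G → ℂ) ∣ p ^ k := hk ▸ Chars2.charDegree_dvd_index hab χ
          exact Nat.eq_one_of_dvd_coprimes ((hp.out.coprime_iff_not_dvd.2 (hdeg χ)).pow_left k)
            hdvd dvd_rfl
        have hcomm := Chars2.comm_of_degree_one hone
        exact ⟨P, ⟨fun x hx g => by rwa [hcomm g x, mul_inv_cancel_right]⟩,
          fun x _ y _ => hcomm x y, P.2, P.not_dvd_index⟩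
      · obtain ⟨j, hj⟩ := IsPGroup.iff_card.1 P.2
        have hcPN : (Nat.card (P : Subgroup G)).Coprime (Nat.card N) := by
          rw [hj]; exact hcop.symm.pow_left j
        have hcen : N ≤ Subgroup.centralizer ((P : Subgroup G) : Set G) :=
          centralize_of_invariant P.2 hcPN fun θ hθ a _ m => invariant_of_pindex N hk hdeg hθ a m
        have hPab : ∀ x ∈ (P : Subgroup G), ∀ y ∈ (P : Subgroup G), x * y = y * x := by
          intro x hx y hy
          have h1 := hQab _ (hQtop ▸ Subgroup.mem_top (x : G ⧸ N))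
            _ (hQtop ▸ Subgroup.mem_top (y : G ⧸ N))
          rw [← QuotientGroup.mk_mul, ← QuotientGroup.mk_mul, QuotientGroup.eq] at h1
          have h2 : (x * y)⁻¹ * (y * x) ∈ N ⊓ (P : Subgroup G) :=
            ⟨h1, (P : Subgroup G).mul_mem ((P : Subgroup G).inv_mem ((P : Subgroup G).mul_mem hx hy)) ((P : Subgroup G).mul_mem hy hx)⟩
          rw [inf_comm, Coprime.inf_eq_bot_of_coprime hcPN.symm, Subgroup.mem_bot, inv_mul_eq_one] at h2
          exact h2
        refine ⟨P, ?_, hPab, P.2, P.not_dvd_index⟩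
        rw [← Subgroup.normalizer_eq_top_iff, eq_top_iff]
        have hsup : N ⊔ (P : Subgroup G) = ⊤ := by
          refine Subgroup.index_eq_one.1 ?_
          have h1 : (N ⊔ (P : Subgroup G)).index ∣ p ^ k := hk ▸ Subgroup.index_dvd_of_le le_sup_left
          have h2 : (N ⊔ (P : Subgroup G)).index ∣ (P : Subgroup G).index :=
            Subgroup.index_dvd_of_le le_sup_right
          exact Nat.eq_one_of_dvd_coprimes
            ((hp.out.coprime_iff_not_dvd.2 P.not_dvd_index).pow_left k) h1 h2
        rw [← hsup]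
        refine sup_le ?_ Subgroup.le_normalizer
        exact hcen.trans (Subgroup.centralizer_le_normalizer _)
    · have hMlt : Nat.card M ≤ n := by
        have h1 := Subgroup.card_le_card_group M
        have h2 : Nat.card M ≠ Nat.card G := fun e => hMtop (Subgroup.eq_top_of_card_eq M e)
        omega
      obtain ⟨P, hPn, hPab, hPp, hPi⟩ := ih M hMlt (Core.isPSolvable_subgroup hs M) fun θ hd => by
        obtain ⟨χ, hχ⟩ := Chars2.exists_degree_dvd_of_normal θ
        exact hdeg χ (hd.trans hχ)
      haveI := hPn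
      haveI : P.Characteristic := by
        haveI : (hPp.toSylow hPi : Subgroup M).Normal := by rwa [IsPGroup.toSylow_coe]
        have := Sylow.characteristic_of_normal (hPp.toSylow hPi)
        simp only [IsPGroup.toSylow_coe] at this
        exact this hPn
      refine ⟨P.map M.subtype, Core.normal_map_subtype_of_characteristic P, ?_, hPp.map _, ?_⟩
      · rintro _ ⟨x, hx, rfl⟩ _ ⟨y, hy, rfl⟩
        rw [← map_mul, ← map_mul, hPab x hx y hy]
      · rw [Subgroup.index_map_subtype]
        exact hp.out.not_dvd_mul hPi hMi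

end Cfsg.Agent.LeadWork.Ito
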