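import Mathlib.GroupTheory.OrderOfElement
import Mathlib.Data.ZMod.Units
import Mathlib.Data.Nat.Totient
import Mathlib.FieldTheory.Finite.Basic
import Mathlib.GroupTheory.SpecificGroups.Cyclic

namespace Cfsg.Agent.LeadWork

/-- An automorphism of a cyclic `p`-group of order coprime to `p (p-1)` is trivial. -/
theorem pow_fix {G : Type*} [Group G] {p k o m : ℕ} (hp : p.Prime) {z : G}
    (hz : orderOf z = p ^ k) (ho0 : o ≠ 0) (ho : o.Coprime p) (ho1 : o.Coprime (p - 1))
    (h : z ^ (m ^ o) = z) : z ^ m = z := by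
  haveI : NeZero (p ^ k) := ⟨pow_ne_zero _ hp.ne_zero⟩
  have h1 : ((m : ZMod (p ^ k))) ^ o = 1 := by
    have h' : z ^ (m ^ o) = z ^ 1 := by rw [h, pow_one]
    rw [pow_eq_pow_iff_modEq, hz, ← ZMod.natCast_eq_natCast_iff] at h'
    simpa using h'
  obtain ⟨u, hu⟩ : IsUnit (m : ZMod (p ^ k)) := IsUnit.of_pow_eq_one h1 ho0
  have h2 : u ^ o = 1 := Units.ext (by simpa [hu] using h1)
  have h3 : orderOf u = 1 := by
    have hcop : o.Coprime (p ^ k).totient := by
      rcases Nat.eq_zero_or_pos k with rfl | hk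
      · simp
      · rw [Nat.totient_prime_pow hp hk]
        exact (Nat.Coprime.pow_right _ ho).mul_right ho1
    refine Nat.eq_one_of_dvd_coprimes hcop (orderOf_dvd_of_pow_eq_one h2) ?_
    rw [← ZMod.card_units_eq_totient]
    exact orderOf_dvd_card
  have h4 : (m : ZMod (p ^ k)) = ((1 : ℕ) : ZMod (p ^ k)) := by
    rw [← hu, orderOf_eq_one_iff.mp h3]; simp
  rw [ZMod.natCast_eq_natCast_iff] at h4
  conv_rhs => rw [← pow_one z]
  rw [pow_eq_pow_iff_modEq, hz]
  exact h4

/-- If conjugation by `a` (of order coprime to `p (p-1)`) maps `z` into `⟨z⟩`, it fixes `z`. -/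
theorem conj_fix {G : Type*} [Group G] [Finite G] {p k : ℕ} (hp : p.Prime) {a z : G}
    (hz : orderOf z = p ^ k) (ho : (orderOf a).Coprime p) (ho1 : (orderOf a).Coprime (p - 1))
    (h : a * z * a⁻¹ ∈ Subgroup.zpowers z) : a * z * a⁻¹ = z := by
  obtain ⟨m, hm⟩ := Submonoid.mem_powers_iff _ _ |>.mp
    ((mem_powers_iff_mem_zpowers (x := z)).mpr h)
  have key : ∀ i : ℕ, a ^ i * z * (a ^ i)⁻¹ = z ^ (m ^ i) := by
    intro i
    induction i with
    | zero => simp
    | succ i ih =>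
      calc a ^ (i + 1) * z * (a ^ (i + 1))⁻¹ = a * (a ^ i * z * (a ^ i)⁻¹) * a⁻¹ := by
            rw [pow_succ', mul_inv_rev]; group
        _ = (a * z * a⁻¹) ^ (m ^ i) := by rw [ih, conj_pow]
        _ = z ^ (m ^ (i + 1)) := by rw [← hm, ← pow_mul, pow_succ']
  have := key (orderOf a)
  rw [pow_orderOf_eq_one, inv_one, mul_one, one_mul] at this
  rw [← hm]
  exact pow_fix hp hz (orderOf_pos a).ne' ho ho1 this.symm

end Cfsg.Agent.LeadWork
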