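import Cfsg.Agent.LeadWork.PowFix
import Cfsg.Agent.Transfer.Complement
import Cfsg.Agent.Transfer.Tate
import Cfsg.Agent.Coprime.Action
import Cfsg.Agent.FGS3.FixOrderFour

/-! Groups in which all subgroups of a fixed order of a Sylow subgroup are strongly closed. -/

namespace Cfsg.Agent.LeadWork

open Cfsg
open scoped commutatorElement

variable {G : Type*} [Group G]

/-- Subgroups of order `p ^ j` (and `4` if `p ^ j = 2`) of `P` contain their fusion in `P`. -/
def ClosedOfOrder (p j : ℕ) (P : Subgroup G) : Prop :=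
  ∀ E : Subgroup G, E ≤ P → (Nat.card E = p ^ j ∨ (p ^ j = 2 ∧ Nat.card E = 4)) →
    ∀ x ∈ E, ∀ g : G, g * x * g⁻¹ ∈ P → g * x * g⁻¹ ∈ E

theorem mem_map_frattini_iff {P : Subgroup G} {x : G} :
    x ∈ (frattini P).map P.subtype ↔
      ∃ hx : x ∈ P, ∀ M : Subgroup P, IsCoatom M → (⟨x, hx⟩ : P) ∈ M := by
  constructor
  · rintro ⟨y, hy, rfl⟩
    refine ⟨y.2, fun M hM => ?_⟩
    exact frattini_le_coatom hM hy
  · rintro ⟨hx, h⟩
    refine ⟨⟨x, hx⟩, ?_, rfl⟩
    simp only [SetLike.mem_coe, frattini, Order.radical, Subgroup.mem_iInf]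
    intro M hM
    exact h M hM

variable [Finite G] {p : ℕ} [hp : Fact p.Prime]

theorem le_normalizer_of_hyp {P : Subgroup G} (hP : IsPGroup p P) {E : Subgroup G} (hE : E ≤ P)
    (h : ∀ g : G, E.map (MulAut.conj g).toMonoidHom ⊓ Subgroup.normalizer (E : Set G) ≤ E) :
    P ≤ Subgroup.normalizer (E : Set G) := by
  by_contra hc
  have hlt : P ⊓ Subgroup.normalizer (E : Set G) < P := lt_of_le_of_ne inf_le_left fun e =>
    hc (e ▸ inf_le_right)
  obtain ⟨g, hg, hgK⟩ := SetLike.exists_of_lt (Transfer.lt_inf_normalizer hP hlt)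
  refine hgK ⟨hg.1, ?_⟩
  show g ∈ Subgroup.normalizer (E : Set G)
  rw [Transfer.mem_normalizer_iff_map_conj]
  refine Subgroup.eq_of_le_of_card_ge (fun y hy => h g ⟨hy, ?_⟩) (Transfer.card_map_conj g E).ge
  have hEK : E ≤ P ⊓ Subgroup.normalizer (E : Set G) := le_inf hE Subgroup.le_normalizer
  have := (Transfer.mem_normalizer_iff_map_conj.mp hg.2)
  exact (this.le (Subgroup.map_mono hEK hy)).2

theorem exists_order_subgroup {P : Subgroup G} (hP : IsPGroup p P) {j : ℕ} (hj : p ^ j < Nat.card P)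
    {M : Subgroup P} (hM : IsCoatom M) {x : P} (hxM : x ∈ M) (hx : ∃ i ≤ j, orderOf x = p ^ i) :
    ∃ E : Subgroup G, E ≤ M.map P.subtype ∧ Nat.card E = p ^ j ∧ (x : G) ∈ E := by
  obtain ⟨n, hn⟩ := IsPGroup.iff_card.mp hP
  obtain ⟨m, hm⟩ := IsPGroup.iff_card.mp (hP.to_subgroup M)
  have hjn : j < n := (Nat.pow_lt_pow_iff_right hp.out.one_lt).mp (hn ▸ hj)
  have hjm : j ≤ m := by
    by_contra hc
    rw [not_le] at hc
    obtain ⟨K, hK, hMK⟩ := Sylow.exists_subgroup_card_pow_prime_le p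
      (n := m) (m := j) (hn ▸ pow_dvd_pow p hjn.le) M hm hc.le
    have hne : M < K := lt_of_le_of_ne hMK fun e => by
      rw [← e, hm] at hK
      exact hc.ne (Nat.pow_right_injective hp.out.two_le hK)
    have := hM.2 K hne
    rw [this, Subgroup.card_top, hn] at hK
    exact hjn.ne' (Nat.pow_right_injective hp.out.two_le hK)
  obtain ⟨i, hij, hi⟩ := hx
  have hdvd : p ^ j ∣ Nat.card M := hm ▸ pow_dvd_pow p hjm
  have hcard : Nat.card (Subgroup.zpowers (⟨x, hxM⟩ : M)) = p ^ i := by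
    rw [Nat.card_zpowers, ← hi, ← Subgroup.orderOf_coe]
  obtain ⟨K, hK, hle⟩ := Sylow.exists_subgroup_card_pow_prime_le p hdvd _ hcard hij
  refine ⟨(K.map M.subtype).map P.subtype, ?_, ?_, ?_⟩
  · exact Subgroup.map_mono (Subgroup.map_subtype_le K)
  · rw [Subgroup.card_map_of_injective P.subtype_injective,
      Subgroup.card_map_of_injective M.subtype_injective, hK]
  · exact ⟨x, ⟨⟨x, hxM⟩, hle (Subgroup.mem_zpowers _), rfl⟩, rfl⟩

/-- The key fact: a p'-element normalizing `R ≤ P` acts trivially modulo `Φ(P)`. -/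
theorem commutator_le_frattini {P : Subgroup G} (hP : IsPGroup p P) {j : ℕ} (hj1 : 1 ≤ j)
    (hj : p ^ j < Nat.card P) (hcl : ClosedOfOrder p j P)
    (hPn : ∀ E : Subgroup G, E ≤ P → Nat.card E = p ^ j → P ≤ Subgroup.normalizer (E : Set G))
    {R : Subgroup G} (hR : R ≤ P) {y : G} (hy : y ∈ Subgroup.normalizer (R : Set G))
    (hyp : (orderOf y).Coprime p) (hyp1 : (orderOf y).Coprime (p - 1)) :
    ⁅R, Subgroup.zpowers y⁆ ≤ (frattini P).map P.subtype := by
  set A := Subgroup.zpowers y with hA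
  have hAR : A ≤ Subgroup.normalizer (R : Set G) := (Subgroup.zpowers_le).mpr hy
  haveI : Group.IsSolvable A := inferInstance
  have hcop : (Nat.card A).Coprime (Nat.card R) := by
    obtain ⟨r, hr⟩ := IsPGroup.iff_card.mp (hP.to_le hR)
    rw [Nat.card_zpowers, hr]; exact hyp.pow_right _
  set R0 := ⁅R, A⁆ with hR0
  have hR0R : R0 ≤ R := Coprime.commutator_le_of_le_normalizer hAR
  have hR0P : R0 ≤ P := hR0R.trans hR
  have hAR0 : A ≤ Subgroup.normalizer (R0 : Set G) := Subgroup.normalizer_commutator_ge_right R A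
  have hidem : ⁅R0, A⁆ = R0 := Coprime.commutator_commutator_eq hAR hcop
  have hainv : ∀ a ∈ A, ∀ r ∈ R0, a * r * a⁻¹ ∈ R0 := fun a ha r hr =>
    (Subgroup.mem_normalizer_iff.mp (hAR0 ha) r).mp hr
  have hacop : ∀ a ∈ A, (orderOf a).Coprime p ∧ (orderOf a).Coprime (p - 1) := fun a ha => by
    have hd : orderOf a ∣ orderOf y := by
      rw [← Nat.card_zpowers y]; exact Subgroup.orderOf_dvd_natCard A ha
    exact ⟨hyp.coprime_dvd_left hd, hyp1.coprime_dvd_left hd⟩
  -- elements of order `p ^ j` are fixed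
  have hfix : ∀ a ∈ A, ∀ z ∈ R0, (orderOf z = p ^ j ∨ (p ^ j = 2 ∧ orderOf z = 4)) →
      a * z * a⁻¹ = z := by
    intro a ha z hz ho
    have hzP : z ∈ P := hR0P hz
    have hmem := hcl (Subgroup.zpowers z) (Subgroup.zpowers_le.mpr hzP)
      (by rwa [Nat.card_zpowers]) z (Subgroup.mem_zpowers z) a (hR0P (hainv a ha z hz))
    obtain ⟨i, hi⟩ : ∃ i, orderOf z = p ^ i := by
      rcases ho with ho | ⟨h2, ho⟩
      · exact ⟨j, ho⟩
      · refine ⟨2, ?_⟩
        have hp2 : p = 2 := (Nat.prime_dvd_prime_iff_eq hp.out Nat.prime_two).mp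
          (h2 ▸ dvd_pow_self p (by omega))
        rw [ho, hp2]; norm_num
    exact conj_fix hp.out hi (hacop a ha).1 (hacop a ha).2 hmem
  have hord : ∀ z ∈ R0, ∃ i, orderOf z = p ^ i := fun z hz => by
    obtain ⟨i, hi⟩ := IsPGroup.iff_orderOf.mp hP ⟨z, hR0P hz⟩
    exact ⟨i, by rw [← hi, Subgroup.orderOf_mk]⟩
  by_cases hbig : ∃ e ∈ R0, orderOf e = p ^ j
  · -- then the action on `R0` is trivial
    obtain ⟨e, he, heo⟩ := hbig
    have hEP : Subgroup.zpowers e ≤ P := Subgroup.zpowers_le.mpr (hR0P he)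
    have hPE := hPn _ hEP (by rw [Nat.card_zpowers, heo])
    have hfixE : ∀ a ∈ A, ∀ f ∈ Subgroup.zpowers e, a * f * a⁻¹ = f := by
      intro a ha f hf
      obtain ⟨k, rfl⟩ := Subgroup.mem_zpowers_iff.mp hf
      rw [← conj_zpow, hfix a ha e he (.inl heo)]
    have hcen : R0 ≤ Subgroup.centralizer ({e} : Set G) := by
      rw [← hidem, Subgroup.commutator_le]
      intro r hr a ha
      rw [Subgroup.mem_centralizer_singleton_iff]
      have hf : r⁻¹ * e * r ∈ Subgroup.zpowers e :=
        (Subgroup.mem_normalizer_iff''.mp (hPE (hR0P hr)) e).mp (Subgroup.mem_zpowers e)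
      have h1 : a * (r⁻¹ * e * r) * a⁻¹ = r⁻¹ * e * r := hfixE a ha _ hf
      have h2 : a⁻¹ * e * a⁻¹⁻¹ = e := hfixE _ (inv_mem ha) e (Subgroup.mem_zpowers e)
      rw [inv_inv] at h2
      calc ⁅r, a⁆ * e = r * a * r⁻¹ * (a⁻¹ * e * a) * a⁻¹ := by rw [commutatorElement_def]; group
        _ = r * (a * (r⁻¹ * e * r) * a⁻¹) * (a * r⁻¹ * a⁻¹) := by rw [h2]; group
        _ = r * (r⁻¹ * e * r) * (a * r⁻¹ * a⁻¹) := by rw [h1]
        _ = e * ⁅r, a⁆ := by rw [commutatorElement_def]; group
    have hsmall : ∀ z ∈ R0, (z ^ p = 1 ∨ (p = 2 ∧ z ^ 4 = 1)) → y * z * y⁻¹ = z := by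
      intro z hz hzp
      have hyA : y ∈ A := Subgroup.mem_zpowers y
      obtain ⟨i, hi⟩ := hord z hz
      have hi2 : i ≤ 1 ∨ (p = 2 ∧ i ≤ 2) := by
        rcases hzp with h | ⟨h2, h⟩
        · left
          have h' := orderOf_dvd_of_pow_eq_one h
          rw [hi] at h'
          exact (Nat.pow_dvd_pow_iff_le_right hp.out.one_lt).mp (by simpa using h')
        · right; refine ⟨h2, ?_⟩
          have h' := orderOf_dvd_of_pow_eq_one h
          rw [hi, h2, show (4 : ℕ) = 2 ^ 2 by norm_num] at h'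
          exact (Nat.pow_dvd_pow_iff_le_right (by norm_num)).mp h'
      rcases lt_trichotomy i j with hlt | rfl | hgt
      · have hc : Commute z e := ((Subgroup.mem_centralizer_singleton_iff).mp (hcen hz))
        have hze : orderOf (z * e) = p ^ j := by
          obtain ⟨k, rfl⟩ : ∃ k, j = k + 1 := ⟨j - 1, by omega⟩
          apply orderOf_eq_prime_pow
          · rw [hc.mul_pow, show z ^ p ^ k = 1 from orderOf_dvd_iff_pow_eq_one.mp
              (hi ▸ pow_dvd_pow p (by omega)), one_mul]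
            intro h
            have h' := orderOf_dvd_of_pow_eq_one h
            rw [heo] at h'
            have := (Nat.pow_dvd_pow_iff_le_right hp.out.one_lt).mp h'
            omega
          · rw [hc.mul_pow, show z ^ p ^ (k + 1) = 1 from orderOf_dvd_iff_pow_eq_one.mp
              (hi ▸ pow_dvd_pow p (by omega)), one_mul, ← heo, pow_orderOf_eq_one]
        have h1 := hfix y hyA (z * e) (R0.mul_mem hz he) (.inl hze)
        have h2 := hfix y hyA e he (.inl heo)
        calc y * z * y⁻¹ = y * (z * e) * y⁻¹ * (y * e * y⁻¹)⁻¹ := by group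
          _ = z := by rw [h1, h2]; group
      · exact hfix y hyA z hz (.inl hi)
      · obtain ⟨h2, hi2⟩ : p = 2 ∧ i ≤ 2 := hi2.resolve_left (by omega)
        obtain ⟨rfl, rfl⟩ : i = 2 ∧ j = 1 := by omega
        exact hfix y hyA z hz (.inr ⟨by rw [h2, pow_one], by rw [hi, h2]; norm_num⟩)
    have hall := FGS3.fixed_of_fixed_order_p_four y hyp (Nat.card R0) R0 le_rfl (hP.to_le hR0P)
      (hainv y (Subgroup.mem_zpowers y)) hsmall
    have hbot : ⁅R0, A⁆ = ⊥ := by
      rw [Subgroup.commutator_eq_bot_iff_le_centralizer, Subgroup.le_centralizer_iff, hA,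
        Subgroup.zpowers_le, Subgroup.mem_centralizer_iff]
      intro r hr
      exact (mul_inv_eq_iff_eq_mul.mp (hall r hr)).symm
    rw [hidem] at hbot
    rw [hbot]; exact bot_le
  · -- all elements of `R0` have order less than `p ^ j`
    have hlow : ∀ z ∈ R0, ∃ i ≤ j, orderOf z = p ^ i := by
      intro z hz
      obtain ⟨i, hi⟩ := hord z hz
      refine ⟨i, ?_, hi⟩
      by_contra hc
      rw [not_le] at hc
      refine hbig ⟨z ^ p ^ (i - j), R0.pow_mem hz _, ?_⟩
      rw [orderOf_pow_of_dvd (pow_ne_zero _ hp.out.ne_zero) (hi ▸ pow_dvd_pow p (by omega)), hi,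
        Nat.pow_div (by omega) hp.out.pos]
      congr 1; omega
    intro x hx
    rw [mem_map_frattini_iff]
    refine ⟨hR0P hx, fun M hM => ?_⟩
    obtain ⟨hMn, hMp, hMc⟩ := OddLocal.coatom_facts hP hM
    -- `R0 ∩ M` is invariant
    have hinv : ∀ a, ∀ ha : a ∈ A, ∀ r, ∀ hr : r ∈ R0, (⟨r, hR0P hr⟩ : P) ∈ M →
        (⟨a * r * a⁻¹, hR0P (hainv a ha r hr)⟩ : P) ∈ M := by
      intro a ha r hr hrM
      obtain ⟨i, hij, hi⟩ := hlow r hr
      obtain ⟨E, hEM, hE, hrE⟩ := exists_order_subgroup hP hj hM hrM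
        ⟨i, hij, by rw [Subgroup.orderOf_mk, hi]⟩
      have := hcl E (hEM.trans (Subgroup.map_subtype_le M)) (.inl hE) r hrE a (hR0P (hainv a ha r hr))
      obtain ⟨w, hw, hwe⟩ := hEM this
      have : w = ⟨a * r * a⁻¹, hR0P (hainv a ha r hr)⟩ := Subtype.ext hwe
      exact this ▸ hw
    suffices hsub : R0 ≤ M.map P.subtype by
      obtain ⟨w, hw, hwx⟩ := hsub hx
      have : w = ⟨x, hR0P hx⟩ := Subtype.ext hwx
      exact this ▸ hw
    rw [← hidem, Subgroup.commutator_le]
    intro r hr a ha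
    let b : G → R0 → P := fun c s => ⟨(s : G), hR0P s.2⟩
    let q := QuotientGroup.mk' M
    let f : R0 →* P ⧸ M := q.comp (Subgroup.inclusion hR0P)
    let σ : R0 → R0 := fun s => ⟨a * s * a⁻¹, hainv a ha s s.2⟩
    have hσ : ∀ s : R0, f s = 1 → f (σ s) = 1 := fun s hs =>
      (QuotientGroup.eq_one_iff _).mpr (hinv a ha s s.2 ((QuotientGroup.eq_one_iff _).mp hs))
    have htriv : ∀ s : R0, f (σ s) = f s := by
      intro s
      by_cases hs : f s = 1
      · rw [hσ s hs, hs]
      have hgen : ∀ t : R0, ∃ k : ℕ, f t = f s ^ k := by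
        intro t
        have hne : M ⊔ Subgroup.zpowers (Subgroup.inclusion hR0P s) = ⊤ := by
          apply hM.2
          refine lt_of_le_of_ne le_sup_left fun e => hs ?_
          exact (QuotientGroup.eq_one_iff _).mpr (e ▸ Subgroup.mem_sup_right (Subgroup.mem_zpowers _))
        haveI := hMn
        have ht : Subgroup.inclusion hR0P t ∈ M ⊔ Subgroup.zpowers (Subgroup.inclusion hR0P s) := by
          rw [hne]; trivial
        obtain ⟨μ, hμ, w, hw, e⟩ := Subgroup.mem_sup_of_normal_left.mp ht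
        obtain ⟨k, rfl⟩ := Submonoid.mem_powers_iff _ _ |>.mp (mem_powers_iff_mem_zpowers.mpr hw)
        refine ⟨k, ?_⟩
        show q _ = q _ ^ k
        rw [← e, map_mul, show q μ = 1 from (QuotientGroup.eq_one_iff _).mpr hμ, one_mul, map_pow]
      obtain ⟨m, hm⟩ := hgen (σ s)
      have hiter : ∀ t : R0, f (σ t) = f t ^ m := by
        intro t
        obtain ⟨k, hk⟩ := hgen t
        have h1 : f (σ (t * (s ^ k)⁻¹)) = 1 := hσ _ (by rw [map_mul, map_inv, map_pow, hk, mul_inv_cancel])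
        have h2 : σ (t * (s ^ k)⁻¹) = σ t * (σ s ^ k)⁻¹ := by
          apply Subtype.ext
          simp only [σ, Subgroup.coe_mul, Subgroup.coe_inv, SubgroupClass.coe_pow, conj_pow]
          group
        rw [h2, map_mul, map_inv, map_pow, mul_inv_eq_one] at h1
        rw [h1, hm, hk, ← pow_mul, ← pow_mul, mul_comm]
      have hk : ∀ (i : ℕ), f (σ^[i] s) = f s ^ (m ^ i) := by
        intro i
        induction i with
        | zero => simp
        | succ i ih => rw [Function.iterate_succ_apply', hiter, ih, ← pow_mul, pow_succ]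
      have hσi : ∀ i : ℕ, ((σ^[i] s : R0) : G) = a ^ i * (s : G) * (a ^ i)⁻¹ := by
        intro i
        induction i with
        | zero => simp
        | succ i ih =>
          rw [Function.iterate_succ_apply']
          show a * ((σ^[i] s : R0) : G) * a⁻¹ = _
          rw [ih, pow_succ', mul_inv_rev]; group
      have hlast : σ^[orderOf a] s = s := Subtype.ext (by rw [hσi, pow_orderOf_eq_one]; simp)
      have h3 := hk (orderOf a)
      rw [hlast] at h3
      have hop : orderOf (f s) = p ^ 1 := by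
        rw [pow_one]
        refine orderOf_eq_prime ?_ hs
        show q _ ^ p = 1
        rw [← map_pow]
        exact (QuotientGroup.eq_one_iff _).mpr (hMp _)
      rw [hiter]
      exact pow_fix hp.out hop (orderOf_pos a).ne' (hacop a ha).1 (hacop a ha).2 h3.symm
    have h4 := htriv ⟨r, hr⟩
    have h5 : ((σ ⟨r, hr⟩ * ⟨r, hr⟩⁻¹ : R0)) = ⟨(⁅r, a⁆)⁻¹, inv_mem (by
        rw [← hidem]; exact Subgroup.commutator_mem_commutator hr ha)⟩ := by
      apply Subtype.ext
      simp only [σ, Subgroup.coe_mul, Subgroup.coe_inv, commutatorElement_def]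
      group
    have h6 : f (σ ⟨r, hr⟩ * ⟨r, hr⟩⁻¹) = 1 := by rw [map_mul, map_inv, h4, mul_inv_cancel]
    rw [h5] at h6
    have h7 := M.inv_mem ((QuotientGroup.eq_one_iff _).mp h6)
    exact ⟨_, h7, by simp⟩

theorem hasNormalPComplement_of_closed (P : Sylow p G) {j : ℕ} (hj1 : 1 ≤ j)
    (hj : p ^ j < Nat.card (P : Subgroup G)) (hcl : ClosedOfOrder p j (P : Subgroup G))
    (hPn : ∀ E : Subgroup G, E ≤ (P : Subgroup G) → Nat.card E = p ^ j →
      (P : Subgroup G) ≤ Subgroup.normalizer (E : Set G))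
    (hp1 : ∀ g : G, (orderOf g).Coprime (p - 1)) :
    HasNormalPComplement p G := by
  set Φ := (frattini (P : Subgroup G)).map (P : Subgroup G).subtype with hΦ
  have hcomm : ∀ a ∈ (P : Subgroup G), ∀ b ∈ (P : Subgroup G), a * b * a⁻¹ * b⁻¹ ∈ Φ := by
    intro a ha b hb
    rw [mem_map_frattini_iff]
    refine ⟨mul_mem (mul_mem (mul_mem ha hb) (inv_mem ha)) (inv_mem hb), fun M hM => ?_⟩
    exact (OddLocal.coatom_facts P.2 hM).2.2 ⟨a, ha⟩ ⟨b, hb⟩
  have hbase : ∀ B : Subgroup G, Transfer.TameIn P B → ∀ m ∈ Subgroup.normalizer (B : Set G),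
      ∀ b ∈ B, b⁻¹ * (m * b * m⁻¹) ∈ Φ := by
    intro B hB m hm
    have hBP : B ≤ (P : Subgroup G) := (Transfer.FullyNormalizedIn.of_tame hB).1
    set N := Subgroup.normalizer (B : Set G) with hN
    have hNB : ∀ n ∈ N, ∀ b ∈ B, n * b * n⁻¹ ∈ B := fun n hn b hb =>
      (Subgroup.mem_normalizer_iff.mp hn b).mp hb
    let K : Subgroup N :=
      { carrier := {n | ∀ b ∈ B, b⁻¹ * ((n : G) * b * (n : G)⁻¹) ∈ Φ}
        mul_mem' := fun {u v} hu hv b hb => by
          have h1 := hu _ (hNB v v.2 b hb)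
          have h2 := hv b hb
          have := Φ.mul_mem h2 h1
          simpa [mul_assoc] using this
        one_mem' := fun b hb => by simp
        inv_mem' := fun {u} hu b hb => by
          have h1 := hu _ (hNB (u : G)⁻¹ (inv_mem u.2) b hb)
          have := Φ.inv_mem h1
          simpa [mul_assoc] using this }
    have hres : pResidual p N ≤ K := by
      rw [pResidual, Subgroup.closure_le]
      intro g hg b hb
      have hgp : (orderOf (g : G)).Coprime p := by rw [Subgroup.orderOf_coe]; exact hg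
      have h1 := commutator_le_frattini P.2 hj1 hj hcl hPn hBP g.2 hgp (hp1 _)
        (Subgroup.commutator_mem_commutator (B.inv_mem hb) (Subgroup.mem_zpowers (g : G)))
      rw [commutatorElement_def, inv_inv] at h1
      have e : b⁻¹ * ((g : G) * b * (g : G)⁻¹) = b⁻¹ * (g : G) * b * (g : G)⁻¹ := by group
      show b⁻¹ * ((g : G) * b * (g : G)⁻¹) ∈ Φ
      rw [e]
      exact h1
    let S : Sylow p N := IsPGroup.toSylow (P := ((P : Subgroup G) ⊓ N).subgroupOf N)
      P.2.to_inf_left.comap_subtype (Transfer.FullyNormalizedIn.of_tame hB).2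
    have hSK : (S : Subgroup N) ≤ K := by
      intro s hs b hb
      have := hcomm b⁻¹ (inv_mem (hBP hb)) s (Subgroup.mem_subgroupOf.mp hs).1
      simpa [mul_assoc] using this
    have hmK : (⟨m, hm⟩ : N) ∈ K := by
      have : (⊤ : Subgroup N) ≤ K := by
        rw [← Transfer.sylow_sup_pResidual S]; exact sup_le hSK hres
      exact this (Subgroup.mem_top _)
    exact hmK
  let R : Subgroup G → G → Prop := fun A g => ∀ a ∈ A, a⁻¹ * (g * a * g⁻¹) ∈ Φ
  have key : ∀ x ∈ (P : Subgroup G), ∀ g : G, g * x * g⁻¹ ∈ (P : Subgroup G) →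
      x⁻¹ * (g * x * g⁻¹) ∈ Φ := by
    intro x hx g hgx
    refine (Transfer.alperin_induction P R ?_ ?_ ?_ ?_ (Subgroup.zpowers_le.mpr hx) ?_ : R _ g) x
      (Subgroup.mem_zpowers x)
    · exact fun A B g hAB hB a ha => hB a (hAB ha)
    · intro A g h hg hh a ha
      have h1 := hh _ (Subgroup.mem_map_of_mem _ ha)
      have := Φ.mul_mem (hg a ha) h1
      simpa [mul_assoc] using this
    · rintro A g hg _ ⟨a, ha, rfl⟩
      have := Φ.inv_mem (hg a ha)
      simpa [mul_assoc] using this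
    · exact fun B hB m hm b hb => hbase B hB m hm b hb
    · rw [MonoidHom.map_zpowers, Subgroup.zpowers_le]
      exact hgx
  set K := (P : Subgroup G).transferFocal.ker with hK
  have hKP : K ⊓ (P : Subgroup G) ≤ Φ := by
    rw [hK, Subgroup.ker_transferFocal_inf_eq_focalSubgroup P]
    exact Transfer.focalSubgroup_le_of_forall key
  obtain ⟨M, hMn, hMc, k, hk⟩ := Transfer.hasNormalPComplement_iff_exists.mp
    (Transfer.hasNormalPComplement_of_inf_le_frattini P K hKP)
  have hKq : IsPGroup p (G ⧸ K) :=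
    (P.2.to_quotient (P : Subgroup G).focalSubgroupOf).of_equiv
      (Subgroup.transferFocal.quotientKerMulEquivQuotientFocalSubroupOf P).symm
  obtain ⟨l, hl⟩ := IsPGroup.iff_card.mp hKq
  rw [← Subgroup.index_eq_card] at hl
  have hchar : M = pResidual p K := by
    refine le_antisymm (fun g hg => Transfer.mem_pResidual_of_coprime ?_) ?_
    · exact hMc.coprime_dvd_left (by simpa using Subgroup.orderOf_dvd_natCard M hg)
    · refine Transfer.pResidual_le_of_isPGroup_quotient (IsPGroup.of_card (n := k) ?_)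
      rw [← Subgroup.index_eq_card, hk]
  haveI : (pResidual p K).Characteristic := Subgroup.characteristic_iff_map_le.mpr fun φ =>
    Transfer.pResidual_map_le φ.toMonoidHom
  haveI : (M.map K.subtype).Normal := by rw [hchar]; infer_instance
  refine Transfer.hasNormalPComplement_iff_exists.mpr ⟨M.map K.subtype, inferInstance, ?_, k + l, ?_⟩
  · rwa [Subgroup.card_map_of_injective K.subtype_injective]
  · rw [Subgroup.index_map_subtype, hk, hl, ← pow_add]

end Cfsg.Agent.LeadWork
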