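import Cfsg.Agent.LeadWork.StrongClosed
import Cfsg.Agent.Core.Huppert
import Cfsg.Agent.Core.MinimalNormal
import Cfsg.Agent.FGS3.FrattiniAction

/-! A criterion for supersolvability through a normal `p`-subgroup. -/

set_option autoImplicit false
set_option linter.style.haveILetI false

namespace Cfsg.Agent.LeadWork

open Cfsg
open scoped commutatorElement

universe u

/-- The subgroup generated by all commutators and all `(p - 1)`-st powers. -/
def powComm (p : ℕ) (G : Type*) [Group G] : Subgroup G :=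
  Subgroup.closure (Set.range (fun ab : G × G => ⁅ab.1, ab.2⁆) ∪ Set.range (fun a : G => a ^ (p - 1)))

variable {G : Type*} [Group G]

theorem commutator_mem_powComm (p : ℕ) (a b : G) : ⁅a, b⁆ ∈ powComm p G :=
  Subgroup.subset_closure (Or.inl ⟨(a, b), rfl⟩)

theorem pow_mem_powComm (p : ℕ) (a : G) : a ^ (p - 1) ∈ powComm p G :=
  Subgroup.subset_closure (Or.inr ⟨a, rfl⟩)

instance powComm_normal (p : ℕ) : (powComm p G).Normal :=
  ⟨fun x hx g => by
    have := mul_mem (commutator_mem_powComm p g x) hx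
    simpa [commutatorElement_def] using this⟩

theorem map_powComm_of_surjective {H : Type*} [Group H] (p : ℕ) {f : G →* H}
    (hf : Function.Surjective f) : (powComm p G).map f = powComm p H := by
  rw [powComm, powComm, MonoidHom.map_closure]
  congr 1
  ext y
  constructor
  · rintro ⟨_, ⟨ab, rfl⟩ | ⟨a, rfl⟩, rfl⟩
    · exact Or.inl ⟨(f ab.1, f ab.2), (map_commutatorElement f _ _).symm⟩
    · exact Or.inr ⟨f a, (map_pow f _ _).symm⟩
  · rintro (⟨⟨a, b⟩, rfl⟩ | ⟨a, rfl⟩)
    · obtain ⟨a, rfl⟩ := hf a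
      obtain ⟨b, rfl⟩ := hf b
      exact ⟨_, Or.inl ⟨(a, b), rfl⟩, map_commutatorElement f _ _⟩
    · obtain ⟨a, rfl⟩ := hf a
      exact ⟨_, Or.inr ⟨a, rfl⟩, map_pow f _ _⟩

theorem eq_zpowers_of_isCyclic {W : Subgroup G} (h : IsCyclic W) : ∃ u : G, W = Subgroup.zpowers u := by
  obtain ⟨g, hg⟩ := h.exists_generator
  refine ⟨g, le_antisymm (fun y hy => ?_) (Subgroup.zpowers_le.mpr g.2)⟩
  obtain ⟨k, hk⟩ := Subgroup.mem_zpowers_iff.mp (hg ⟨y, hy⟩)
  exact Subgroup.mem_zpowers_iff.mpr ⟨k, by rw [← Subgroup.coe_zpow]; exact congrArg Subtype.val hk⟩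

/-- `powComm` centralizes every normal subgroup of order `p`. -/
theorem powComm_le_centralizer [Finite G] {p : ℕ} [hp : Fact p.Prime] {W : Subgroup G} (hW : W.Normal)
    (hc : Nat.card W = p) : powComm p G ≤ Subgroup.centralizer (W : Set G) := by
  haveI : IsCyclic W := isCyclic_of_prime_card hc
  obtain ⟨u, rfl⟩ := eq_zpowers_of_isCyclic (W := W) inferInstance
  rw [powComm, Subgroup.closure_le]
  rintro z (⟨ab, rfl⟩ | ⟨a, rfl⟩)
  · exact Core.commutator_le_centralizer_zpowers hW
      (Subgroup.commutator_mem_commutator (Subgroup.mem_top _) (Subgroup.mem_top _))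
  · exact Core.commutator_centralizer_prime_card hW hc a

/-- A maximal subgroup of a group of order `p ^ (n + 1)` has order `p ^ n`. -/
theorem card_coatom {P : Type*} [Group P] [Finite P] {p : ℕ} [hp : Fact p.Prime] {n : ℕ}
    (hP : Nat.card P = p ^ (n + 1)) {M : Subgroup P} (hM : IsCoatom M) : Nat.card M = p ^ n := by
  obtain ⟨m, hm⟩ := IsPGroup.iff_card.mp ((IsPGroup.of_card hP).to_subgroup M)
  have hmn : m ≤ n := by
    by_contra hc
    refine hM.1 (Subgroup.eq_top_of_le_card _ ?_)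
    rw [hm, hP]
    exact Nat.pow_le_pow_right hp.out.pos (by omega)
  obtain ⟨K, hK, hle⟩ := Sylow.exists_subgroup_card_pow_prime_le p
    (hP ▸ pow_dvd_pow p n.le_succ) M hm hmn
  rcases hle.eq_or_lt with rfl | hlt
  · exact hK
  · rw [hM.2 K hlt, Subgroup.card_top, hP] at hK
    exact absurd (Nat.pow_right_injective hp.out.two_le hK) (by omega)

/-- `p'`-elements of `powComm` centralize a normal `p`-subgroup all of whose maximal subgroups
are normal. -/
theorem mem_centralizer_of_coatoms [Finite G] {p : ℕ} [hp : Fact p.Prime] {W : Subgroup G}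
    [hW : W.Normal] (hWp : IsPGroup p W)
    (hM : ∀ M : Subgroup W, IsCoatom M → (M.map W.subtype).Normal) {y : G}
    (hy : y ∈ powComm p G) (hyp : (orderOf y).Coprime p) :
    y ∈ Subgroup.centralizer (W : Set G) := by
  obtain ⟨k, hk⟩ := IsPGroup.iff_card.mp hWp
  refine FGS3.mem_centralizer_of_frattini hWp
    (by rw [Subgroup.normalizer_eq_top_iff.mpr hW]; trivial) hyp fun x hx => ?_
  have hd : y * x * y⁻¹ * x⁻¹ ∈ W := mul_mem (hW.conj_mem x hx y) (inv_mem hx)
  refine mem_map_frattini_iff.mpr ⟨hd, fun M hMc => ?_⟩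
  obtain ⟨n, rfl⟩ : ∃ n, k = n + 1 := by
    rcases Nat.eq_zero_or_pos k with rfl | h0
    · exfalso
      refine hMc.1 (Subgroup.eq_top_of_le_card _ ?_)
      rw [hk, pow_zero]
      exact Nat.card_pos
    · exact ⟨k - 1, by omega⟩
  have hMn := hM M hMc
  set M' := M.map W.subtype with hM'
  have hM'W : M' ≤ W := Subgroup.map_subtype_le M
  have hcard : Nat.card (W.map (QuotientGroup.mk' M')) = p := by
    rw [← Subgroup.relIndex_ker, QuotientGroup.ker_mk', Subgroup.relIndex]
    have h1 := Subgroup.card_mul_index (M'.subgroupOf W)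
    rw [Nat.card_congr (Subgroup.subgroupOfEquivOfLe hM'W).toEquiv, hk, hM',
      Subgroup.card_map_of_injective W.subtype_injective, card_coatom hk hMc, pow_succ] at h1
    exact Nat.eq_of_mul_eq_mul_left (pow_pos hp.out.pos n) h1
  have hcen := powComm_le_centralizer (hW.map _ (QuotientGroup.mk'_surjective M')) hcard
    (map_powComm_of_surjective p (QuotientGroup.mk'_surjective M') ▸
      Subgroup.mem_map_of_mem (QuotientGroup.mk' M') hy)
  have hcomm := Subgroup.mem_centralizer_iff.mp hcen (QuotientGroup.mk' M' x)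
    (Subgroup.mem_map_of_mem _ hx)
  have h2 : y * x * y⁻¹ * x⁻¹ ∈ M' := by
    rw [← QuotientGroup.eq_one_iff, ← QuotientGroup.mk'_apply]
    simp only [map_mul, map_inv]
    rw [← hcomm]; group
  obtain ⟨w, hw, hwe⟩ := h2
  rwa [show (⟨y * x * y⁻¹ * x⁻¹, hd⟩ : W) = w from Subtype.ext hwe.symm]

theorem normal_of_le_zpowers {u : G} (h : (Subgroup.zpowers u).Normal) {M : Subgroup G}
    (hM : M ≤ Subgroup.zpowers u) : M.Normal := by
  haveI : IsCyclic M := isCyclic_of_injective (Subgroup.inclusion hM) (Subgroup.inclusion_injective hM)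
  obtain ⟨v, rfl⟩ := eq_zpowers_of_isCyclic (W := M) inferInstance
  obtain ⟨k, rfl⟩ := Subgroup.mem_zpowers_iff.mp (hM (Subgroup.mem_zpowers v))
  exact Core.zpowers_zpow_normal h k

/-- If the subgroups of order `p ^ j` (and `4` if `p ^ j = 2`) of a normal `p`-subgroup are normal,
then the `p'`-elements of `powComm` centralize it. -/
theorem powComm_centralizes [Finite G] {p : ℕ} [hp : Fact p.Prime] {Q : Subgroup G} [hQ : Q.Normal]
    (hQp : IsPGroup p Q) {j : ℕ} (hj1 : 1 ≤ j) (hj : p ^ j < Nat.card Q)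
    (hn : ∀ E : Subgroup G, E ≤ Q → (Nat.card E = p ^ j ∨ (p ^ j = 2 ∧ Nat.card E = 4)) → E.Normal)
    {y : G} (hy : y ∈ powComm p G) (hyp : (orderOf y).Coprime p) :
    y ∈ Subgroup.centralizer (Q : Set G) := by
  obtain ⟨n, hn'⟩ := IsPGroup.iff_card.mp hQp
  have hjn : j < n := (Nat.pow_lt_pow_iff_right hp.out.one_lt).mp (hn' ▸ hj)
  have hcyc : ∀ U : Subgroup G, U ≤ Q → U.Normal → IsCyclic U →
      y ∈ Subgroup.centralizer (U : Set G) := fun U hUQ hUn hUc => by
    haveI := hUn
    obtain ⟨u, rfl⟩ := eq_zpowers_of_isCyclic hUc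
    exact mem_centralizer_of_coatoms (hQp.to_le hUQ)
      (fun M _ => normal_of_le_zpowers hUn (Subgroup.map_subtype_le M)) hy hyp
  have key : ∀ U : Subgroup G, U ≤ Q → (Nat.card U = p ^ j ∨ (IsCyclic U ∧ U.Normal)) →
      y ∈ Subgroup.centralizer (U : Set G) := by
    intro U hUQ hU
    by_cases hUc : IsCyclic U
    · rcases hU with hU | hU
      · exact hcyc U hUQ (hn U hUQ (.inl hU)) hUc
      · exact hcyc U hUQ hU.2 hUc
    rcases hU with hU | hU
    swap
    · exact absurd hU.1 hUc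
    have hUQc : Nat.card (U.subgroupOf Q) = p ^ j := by
      rw [Nat.card_congr (Subgroup.subgroupOfEquivOfLe hUQ).toEquiv, hU]
    obtain ⟨W₀, hW₀, hUW₀⟩ := Sylow.exists_subgroup_card_pow_prime_le p
      (n := j) (m := j + 1) (hn' ▸ pow_dvd_pow p hjn) (U.subgroupOf Q) hUQc (by omega)
    obtain ⟨W, hW⟩ : ∃ W, W = W₀.map Q.subtype := ⟨_, rfl⟩
    have hWQ : W ≤ Q := hW ▸ Subgroup.map_subtype_le W₀
    have hWc : Nat.card W = p ^ (j + 1) := by
      rw [hW, Subgroup.card_map_of_injective Q.subtype_injective, hW₀]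
    have hUW : U ≤ W := fun x hx => hW ▸ ⟨⟨x, hUQ hx⟩, hUW₀ hx, rfl⟩
    have hMn : ∀ M : Subgroup W, IsCoatom M → (M.map W.subtype).Normal := fun M hM =>
      hn _ ((Subgroup.map_subtype_le M).trans hWQ)
        (.inl (by rw [Subgroup.card_map_of_injective W.subtype_injective, card_coatom hWc hM]))
    obtain ⟨x, hx, hxU⟩ := SetLike.exists_of_lt (lt_of_le_of_ne hUW fun e => by
      rw [e, hWc] at hU
      exact absurd (Nat.pow_right_injective hp.out.two_le hU) (by omega))
    have hne : Subgroup.zpowers (⟨x, hx⟩ : W) ≠ ⊤ := fun e => hUc <| by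
      haveI : IsCyclic W := ⟨⟨⟨x, hx⟩, fun w => show w ∈ Subgroup.zpowers _ by rw [e]; trivial⟩⟩
      exact isCyclic_of_injective (Subgroup.inclusion hUW) (Subgroup.inclusion_injective hUW)
    obtain ⟨M, hM, hxM⟩ := (eq_top_or_exists_le_coatom _).resolve_left hne
    haveI := hn U hUQ (.inl hU)
    haveI := hMn M hM
    haveI hWn : W.Normal := by
      have h1 : U ⊔ M.map W.subtype = W := by
        refine Subgroup.eq_of_le_of_card_ge (sup_le hUW (Subgroup.map_subtype_le M)) ?_
        obtain ⟨m, hm⟩ := IsPGroup.iff_card.mp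
          (hQp.to_le ((sup_le hUW (Subgroup.map_subtype_le M)).trans hWQ))
        have hlt : U < U ⊔ M.map W.subtype := lt_of_le_of_ne le_sup_left fun e => hxU (by
          rw [e]; exact Subgroup.mem_sup_right ⟨⟨x, hx⟩, hxM (Subgroup.mem_zpowers _), rfl⟩)
        have h2 : p ^ j < p ^ m := by
          rw [← hU, ← hm]
          exact lt_of_le_of_ne (Subgroup.card_le_of_le hlt.le)
            fun e => hlt.ne (Subgroup.eq_of_le_of_card_ge hlt.le e.ge)
        rw [hWc, hm]
        exact Nat.pow_le_pow_right hp.out.pos ((Nat.pow_lt_pow_iff_right hp.out.one_lt).mp h2)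
      rw [← h1]; infer_instance
    exact Subgroup.centralizer_le (SetLike.coe_subset_coe.mpr hUW)
      (mem_centralizer_of_coatoms (hQp.to_le hWQ) hMn hy hyp)
  refine Subgroup.mem_centralizer_iff.mpr fun x hx => ?_
  refine (mul_inv_eq_iff_eq_mul.mp (FGS3.fixed_of_fixed_order_p_four (p := p) y hyp _ Q le_rfl hQp
    (fun z hz => hQ.conj_mem z hz y) (fun z hz hzo => ?_) x hx)).symm
  obtain ⟨i, hi⟩ := IsPGroup.iff_orderOf.mp hQp ⟨z, hz⟩
  rw [Subgroup.orderOf_mk] at hi
  have hmem : y ∈ Subgroup.centralizer ({z} : Set G) := by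
    by_cases hij : i ≤ j
    · obtain ⟨K, hK, hle⟩ := Sylow.exists_subgroup_card_pow_prime_le p
        (hn' ▸ pow_dvd_pow p hjn.le) (Subgroup.zpowers (⟨z, hz⟩ : Q))
        (by rw [Nat.card_zpowers, Subgroup.orderOf_mk, hi]) hij
      refine Subgroup.centralizer_le ?_ (key (K.map Q.subtype) (Subgroup.map_subtype_le K)
        (.inl (by rw [Subgroup.card_map_of_injective Q.subtype_injective, hK])))
      rw [Set.singleton_subset_iff]
      exact ⟨⟨z, hz⟩, hle (Subgroup.mem_zpowers _), rfl⟩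
    · rcases hzo with hzo | ⟨rfl, hzo⟩
      · have h1 := orderOf_dvd_of_pow_eq_one hzo
        rw [hi] at h1
        exact absurd (Nat.le_of_dvd hp.out.pos h1)
          (not_le.mpr (lt_self_pow₀ hp.out.one_lt (by omega)))
      · have h1 := orderOf_dvd_of_pow_eq_one hzo
        rw [hi, show (4 : ℕ) = 2 ^ 2 by norm_num, Nat.pow_dvd_pow_iff_le_right one_lt_two] at h1
        obtain rfl : j = 1 := by omega
        obtain rfl : i = 2 := by omega
        refine Subgroup.centralizer_le ?_ (key (Subgroup.zpowers z) (Subgroup.zpowers_le.mpr hz)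
          (.inr ⟨inferInstance, hn _ (Subgroup.zpowers_le.mpr hz)
            (.inr ⟨by norm_num, by rw [Nat.card_zpowers, hi]; norm_num⟩)⟩))
        rw [Set.singleton_subset_iff]
        exact Subgroup.mem_zpowers z
  exact mul_inv_eq_iff_eq_mul.mpr (Subgroup.mem_centralizer_iff.mp hmem z rfl).symm

open scoped IsMulCommutative in
/-- A minimal normal `p`-subgroup centralized by the `p'`-elements of `powComm` has order `p`. -/
theorem isCyclic_of_isMinNormal [Finite G] {p : ℕ} [hp : Fact p.Prime] {N : Subgroup G}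
    (hN : Core.IsMinNormal N) (hNp : IsPGroup p N)
    (hcen : ∀ y ∈ powComm p G, (orderOf y).Coprime p → y ∈ Subgroup.centralizer (N : Set G)) :
    IsCyclic N := by
  haveI := hN.1
  have hNn : ∀ g : G, ∀ v ∈ N, g * v * g⁻¹ ∈ N := fun g v hv => hN.1.conj_mem v hv g
  have hsol : ⁅N, N⁆ = ⊥ := by
    have hlt := Coprime.commutator_lt_of_isPGroup hNp hNp Subgroup.le_normalizer hN.2.1
    rcases hN.2.2 _ inferInstance hlt.le with h | h
    · exact h
    · exact absurd h hlt.ne
  have hcomm : ∀ a ∈ N, ∀ b ∈ N, a * b = b * a := fun a ha b hb =>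
    Subgroup.mem_centralizer_iff.mp (Subgroup.commutator_eq_bot_iff_le_centralizer.mp hsol hb) a ha
  haveI : IsMulCommutative N := ⟨⟨fun a b => Subtype.ext (hcomm a a.2 b b.2)⟩⟩
  -- exponent `p`
  have hexp : ∀ v ∈ N, v ^ p = 1 := by
    let V : Subgroup G :=
      { carrier := {v | v ∈ N ∧ v ^ p = 1}
        mul_mem' := fun {a b} ha hb => ⟨mul_mem ha.1 hb.1, by
          rw [(show Commute a b from hcomm a ha.1 b hb.1).mul_pow, ha.2, hb.2, one_mul]⟩
        one_mem' := ⟨one_mem N, one_pow p⟩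
        inv_mem' := fun {a} ha => ⟨inv_mem ha.1, by rw [inv_pow, ha.2, inv_one]⟩ }
    have hVn : V.Normal := ⟨fun v hv g => ⟨hNn g v hv.1, by rw [conj_pow, hv.2]; simp⟩⟩
    rcases hN.2.2 V hVn (fun v hv => hv.1) with h | h
    · exfalso
      haveI : Nontrivial N := (Subgroup.nontrivial_iff_ne_bot N).mpr hN.2.1
      obtain ⟨k, hk⟩ := IsPGroup.iff_card.mp hNp
      have hk0 : k ≠ 0 := fun e => by
        rw [e, pow_zero] at hk
        exact (Finite.one_lt_card (α := N)).ne' hk
      obtain ⟨v, hv⟩ := exists_prime_orderOf_dvd_card' p (G := N) (hk ▸ dvd_pow_self p hk0)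
      have h1 : (v : G) ∈ V := ⟨v.2, by rw [← hv, ← Subgroup.orderOf_coe, pow_orderOf_eq_one]⟩
      rw [h, Subgroup.mem_bot] at h1
      rw [← Subgroup.orderOf_coe, h1, orderOf_one] at hv
      exact hp.out.ne_one hv.symm
    · intro v hv
      rw [← h] at hv
      exact hv.2
  -- `powComm` centralizes `N`
  have hpc : powComm p G ≤ Subgroup.centralizer (N : Set G) := by
    set A := powComm p G
    haveI hA : A.Normal := powComm_normal p
    let S : Sylow p A := default
    set S' := (S : Subgroup A).map A.subtype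
    have hS'p : IsPGroup p S' := S.2.map _
    obtain ⟨M, ⟨hMN, hM0, hMS⟩, hmin⟩ := (Set.toFinite
      {M : Subgroup G | M ≤ N ∧ M ≠ ⊥ ∧ S' ≤ Subgroup.normalizer (M : Set G)}).exists_minimal
      ⟨N, le_rfl, hN.2.1, by rw [Subgroup.normalizer_eq_top_iff.mpr hN.1]; exact le_top⟩
    have hlt := Coprime.commutator_lt_of_isPGroup (hNp.to_le hMN) hS'p hMS hM0
    have hb : ⁅M, S'⁆ = ⊥ := by
      by_contra hb
      exact hlt.not_ge (hmin ⟨hlt.le.trans hMN, hb, Subgroup.normalizer_commutator_ge_right M S'⟩ hlt.le)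
    have hSM : S' ≤ Subgroup.centralizer (M : Set G) :=
      Subgroup.le_centralizer_iff.mp (Subgroup.commutator_eq_bot_iff_le_centralizer.mp hb)
    have hAM : A ≤ Subgroup.centralizer (M : Set G) := by
      have h1 : (⊤ : Subgroup A) ≤ (Subgroup.centralizer (M : Set G)).subgroupOf A := by
        rw [← Transfer.sylow_sup_pResidual S]
        refine sup_le (fun s hs => hSM ⟨s, hs, rfl⟩) ?_
        rw [pResidual, Subgroup.closure_le]
        intro g hg
        exact Subgroup.centralizer_le (SetLike.coe_subset_coe.mpr hMN)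
          (hcen g g.2 (by rw [Subgroup.orderOf_coe]; exact hg))
      exact fun a ha => h1 (Subgroup.mem_top (⟨a, ha⟩ : A))
    have hC : N ⊓ Subgroup.centralizer (A : Set G) ≠ ⊥ := fun e => hM0 (le_bot_iff.mp
      (e ▸ le_inf hMN (Subgroup.le_centralizer_iff.mp hAM)))
    rcases hN.2.2 (N ⊓ Subgroup.centralizer (A : Set G)) inferInstance inf_le_left with h | h
    · exact absurd h hC
    · exact Subgroup.le_centralizer_iff.mp (inf_eq_left.mp h)
  have hfix : ∀ a ∈ powComm p G, ∀ v ∈ N, a * v * a⁻¹ = v := fun a ha v hv => by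
    rw [← Subgroup.mem_centralizer_iff.mp (hpc ha) v hv, mul_inv_cancel_right]
  -- every element acts as a power map
  have hpow : ∀ x : G, ∃ l : ℕ, ∀ v ∈ N, x * v * x⁻¹ = v ^ l := by
    intro x
    let f : N →* N :=
      { toFun := fun v => ⟨x * v * x⁻¹, hNn x v v.2⟩
        map_one' := Subtype.ext (by simp)
        map_mul' := fun a b => Subtype.ext (by simp [mul_assoc]) }
    have hiter : ∀ (m : ℕ) (v : N), ((f^[m] v : N) : G) = x ^ m * v * (x ^ m)⁻¹ := by
      intro m
      induction m with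
      | zero => simp
      | succ m ih =>
        intro v
        rw [Function.iterate_succ_apply', pow_succ']
        show x * (f^[m] v : N) * x⁻¹ = _
        rw [ih]; group
    haveI : Nontrivial N := (Subgroup.nontrivial_iff_ne_bot N).mpr hN.2.1
    obtain ⟨v₀, hv₀⟩ := exists_ne (1 : N)
    obtain ⟨w, hw, l, hl⟩ := Core.exists_pow_eigen (p := p) (fun v : N => Subtype.ext (hexp v v.2))
      hv₀ f fun v => Subtype.ext (by rw [hiter]; exact hfix _ (pow_mem_powComm p x) v v.2)
    obtain ⟨V, hV⟩ : ∃ V : Subgroup N, ∀ v, v ∈ V ↔ f v = v ^ l :=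
      ⟨f.eqLocus (powMonoidHom l), fun v => Iff.rfl⟩
    have hVn : (V.map N.subtype).Normal := by
      refine ⟨?_⟩
      rintro _ ⟨v, hv, rfl⟩ g
      refine ⟨⟨g * v * g⁻¹, hNn g v v.2⟩, (hV _).mpr (Subtype.ext ?_), rfl⟩
      have h1 : x * (v : G) * x⁻¹ = (v : G) ^ l := by
        simpa [f] using congrArg Subtype.val ((hV v).mp hv)
      show x * (g * v * g⁻¹) * x⁻¹ = (g * (v : G) * g⁻¹) ^ l
      rw [conj_pow, ← h1]
      have e : x * (g * v * g⁻¹) * x⁻¹ = ⁅x, g⁆ * (g * (x * v * x⁻¹) * g⁻¹) * ⁅x, g⁆⁻¹ := by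
        rw [commutatorElement_def]; group
      rw [e]
      exact hfix _ (commutator_mem_powComm p x g) _ (hNn g _ (hNn x v v.2))
    refine ⟨l, fun v hv => ?_⟩
    rcases hN.2.2 _ hVn (Subgroup.map_subtype_le V) with h | h
    · exfalso
      refine hw (Subtype.ext (Subgroup.mem_bot.mp (h ▸ ⟨w, (hV w).mpr hl, rfl⟩)))
    · rw [← h] at hv
      obtain ⟨v', hv', rfl⟩ := hv
      simpa [f] using congrArg Subtype.val ((hV v').mp hv')
  haveI : Nontrivial N := (Subgroup.nontrivial_iff_ne_bot N).mpr hN.2.1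
  obtain ⟨v, hv⟩ := exists_ne (1 : N)
  have hzn : (Subgroup.zpowers (v : G)).Normal := ⟨fun z hz g => by
    obtain ⟨k, rfl⟩ := Subgroup.mem_zpowers_iff.mp hz
    obtain ⟨l, hl⟩ := hpow g
    rw [hl _ (zpow_mem v.2 k)]
    exact pow_mem hz l⟩
  rcases hN.2.2 _ hzn (Subgroup.zpowers_le.mpr v.2) with h | h
  · exact absurd (Subtype.ext (Subgroup.zpowers_eq_bot.mp h)) hv
  · rw [← h]; infer_instance

theorem isSupersolvable_of_powComm_aux {p : ℕ} [hp : Fact p.Prime] : ∀ (n : ℕ) {G : Type u}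
    [Group G] [Finite G], Nat.card G = n → ∀ (Q : Subgroup G) [Q.Normal], IsPGroup p Q →
      IsSupersolvable (G ⧸ Q) →
      (∀ y ∈ powComm p G, (orderOf y).Coprime p → y ∈ Subgroup.centralizer (Q : Set G)) →
      IsSupersolvable G := by
  intro n
  induction n using Nat.strong_induction_on with
  | _ n ih =>
  intro G _ _ hn Q _ hQp hss hcen
  by_cases hQ : Q = ⊥
  · subst hQ
    exact Core.isSupersolvable_of_surjective (f := QuotientGroup.quotientBot.toMonoidHom)
      QuotientGroup.quotientBot.surjective hss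
  obtain ⟨N, hN, hNQ⟩ := Core.exists_isMinNormal_le (inferInstance : Q.Normal) hQ
  haveI := hN.1
  haveI := isCyclic_of_isMinNormal hN (hQp.to_le hNQ) fun y hy hyp =>
    Subgroup.centralizer_le (SetLike.coe_subset_coe.mpr hNQ) (hcen y hy hyp)
  refine Core.isSupersolvable_of_cyclic_normal N ?_
  have hsurj := QuotientGroup.mk'_surjective N
  refine ih _ ?_ rfl (Q.map (QuotientGroup.mk' N)) (hQp.map _) ?_ ?_
  · rw [← hn, Subgroup.card_eq_card_quotient_mul_card_subgroup N]
    exact lt_mul_of_one_lt_right Nat.card_pos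
      (Finite.one_lt_card_iff_nontrivial.mpr ((Subgroup.nontrivial_iff_ne_bot _).2 hN.2.1))
  · exact Core.isSupersolvable_of_surjective
      (f := (QuotientGroup.quotientQuotientEquivQuotient N Q hNQ).symm.toMonoidHom)
      (QuotientGroup.quotientQuotientEquivQuotient N Q hNQ).symm.surjective hss
  · intro z hz hzp
    rw [← map_powComm_of_surjective p hsurj] at hz
    obtain ⟨y, hy, rfl⟩ := hz
    -- replace `y` by a power of `p'`-order
    have hord := orderOf_pos y
    set k := (orderOf y).factorization p with hk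
    have hco : Nat.Coprime (p ^ k) (orderOf (QuotientGroup.mk' N y)) := hzp.symm.pow_left k
    obtain ⟨t, he⟩ : ∃ t, (QuotientGroup.mk' N) (y ^ (p ^ k * t)) = QuotientGroup.mk' N y := by
      rcases eq_or_ne (orderOf (QuotientGroup.mk' N y)) 1 with h1 | h1
      · exact ⟨0, by rw [orderOf_eq_one_iff.mp h1, map_pow, orderOf_eq_one_iff.mp h1, one_pow]⟩
      · obtain ⟨t, -, ht⟩ := Nat.exists_mul_mod_eq_one_of_coprime hco
          (lt_of_le_of_ne (orderOf_pos (QuotientGroup.mk' N y)) (Ne.symm h1))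
        exact ⟨t, by rw [map_pow, ← pow_mod_orderOf, ht, pow_one]⟩
    rw [← he]
    have hpow : (orderOf (y ^ (p ^ k * t))).Coprime p := by
      refine Nat.Coprime.coprime_dvd_left ?_ (Nat.coprime_ordCompl hp.out hord.ne').symm
      rw [pow_mul]
      refine (orderOf_pow_dvd _).trans ?_
      rw [orderOf_pow_of_dvd (pow_ne_zero _ hp.out.ne_zero) (Nat.ordProj_dvd _ _)]
    have h1 := hcen _ (pow_mem hy _) hpow
    rw [Subgroup.mem_centralizer_iff]
    rintro _ ⟨q, hq, rfl⟩
    rw [← map_mul, ← map_mul, Subgroup.mem_centralizer_iff.mp h1 q hq]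

/-- If `G ⧸ Q` is supersolvable for a normal `p`-subgroup `Q` which is centralized by the
`p'`-elements of `powComm`, then `G` is supersolvable. -/
theorem isSupersolvable_of_powComm {G : Type*} [Group G] [Finite G] {p : ℕ} [Fact p.Prime]
    (Q : Subgroup G) [Q.Normal] (hQp : IsPGroup p Q) (hss : IsSupersolvable (G ⧸ Q))
    (hcen : ∀ y ∈ powComm p G, (orderOf y).Coprime p → y ∈ Subgroup.centralizer (Q : Set G)) :
    IsSupersolvable G :=
  isSupersolvable_of_powComm_aux _ rfl Q hQp hss hcen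

end Cfsg.Agent.LeadWork
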