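import Cfsg.Agent.Suzuki.SzToriCount
import Cfsg.Agent.Suzuki.SzLie
import Cfsg.Agent.OddLocal.Basic

/-! The Suzuki groups have no nilpotent minimal cover. -/

set_option autoImplicit false
set_option linter.style.haveILetI false
set_option linter.unusedSectionVars false

namespace Cfsg.Agent.LeadWork.SzCover

open Cfsg.Agent.Suzuki

variable {F : Type*} [Field F] {m : ℕ} (h : Ctx F m)
include h

theorem exists_involution (a : Cfsg.suzukiOvoid F m) :
    ∃ z : Cfsg.Sz F m, z ≠ 1 ∧ z ^ 2 = 1 ∧ ∀ p, (z • p = p ↔ p = a) := by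
  obtain ⟨g, rfl⟩ := exists_smul_inf h a
  set u := uEl h 0 (1 : F) with hu
  have hfix : ∀ p, u • p = p → p = inf' F m := by
    intro p hp
    rcases pt_cases p with rfl | ⟨x, y, rfl⟩
    · rfl
    rw [hu, uEl_smul_pt] at hp
    obtain ⟨-, e2⟩ := pt_inj hp
    rw [th_zero, zero_mul, add_zero] at e2
    exact absurd (add_eq_left.mp e2) one_ne_zero
  refine ⟨g * u * g⁻¹, fun e => ?_, ?_, fun p => ⟨fun hp => ?_, ?_⟩⟩
  · rw [conj_eq_one_iff] at e
    exact pt_ne_inf (0 : F) 0 (hfix (pt m 0 0) (by rw [e, one_smul]))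
  · rw [conj_pow, sq, hu, uEl_sq, th_zero, zero_mul, uEl_zero]; simp
  · have h1 := hfix (g⁻¹ • p) (by
      conv_rhs => rw [← hp]
      simp [mul_smul])
    rw [← h1, smul_inv_smul]
  · rintro rfl
    simp [mul_smul, hu, uEl_smul_inf]

theorem exists_split : ∃ c : Cfsg.Sz F m, Odd (orderOf c) ∧ c ≠ 1 ∧
    (c • inf' F m = inf' F m ∧ c • pt m (0 : F) 0 = pt m (0 : F) 0) ∧
    ∀ p : Cfsg.suzukiOvoid F m, c • p = p → p = inf' F m ∨ p = pt m (0 : F) 0 := by
  obtain ⟨k, hk⟩ := hEl_ne_one h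
  refine ⟨hEl h k, ?_, hk, ⟨hEl_smul_inf h k, hEl_smul_zero h k⟩, fun p hp => ?_⟩
  · have := h.finite
    have := Fintype.ofFinite F
    let f : Fˣ →* Cfsg.Sz F m := MonoidHom.mk' (hEl h) (hEl_mul h)
    have h1 : orderOf (hEl h k) ∣ Nat.card Fˣ := (orderOf_map_dvd f k).trans (orderOf_dvd_natCard k)
    rw [Nat.card_units, h.card] at h1
    exact Odd.of_dvd_nat (Nat.Even.sub_odd Nat.one_le_two_pow (Nat.even_pow.mpr ⟨even_two, by omega⟩) odd_one) h1
  · by_contra hne
    push Not at hne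
    exact hk (three_fixed h (inf_pt_zero_ne h) hne.2.symm hne.1.symm (hEl_smul_inf h k)
      (hEl_smul_zero h k) hp)

theorem exists_fpf : ∃ g : Cfsg.Sz F m, Fpf g := by
  have := finite_sz h
  set q := 2 ^ (2 * m + 1)
  have hodd : Odd (q ^ 2 + 1) := ((Nat.even_pow.mpr ⟨Nat.even_pow.mpr ⟨even_two, by omega⟩, two_ne_zero⟩).add_one)
  have hne : q ^ 2 + 1 ≠ 1 := by
    have : 0 < q ^ 2 := by positivity
    omega
  haveI := Fact.mk (Nat.minFac_prime hne)
  obtain ⟨z, hz⟩ := exists_prime_orderOf_dvd_card' (G := Cfsg.Sz F m) (q ^ 2 + 1).minFac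
    (by rw [card_sz h]; exact Dvd.dvd.mul_right (Dvd.dvd.mul_left (Nat.minFac_dvd (q ^ 2 + 1)) _) _)
  refine ⟨z, fpf_of_prime h (fun e => ?_) (Nat.minFac_dvd _) hz⟩
  exact (Nat.not_even_iff_odd.mpr hodd) (even_iff_two_dvd.mpr (by
    have h2 := Nat.minFac_dvd (q ^ 2 + 1)
    rw [e] at h2
    exact h2))

theorem odd_fpf {g : Cfsg.Sz F m} (hg : Fpf g) : Odd (orderOf g) := by
  have := finite_sz h
  have h1 := torus_data h (A := Subgroup.centralizer ({g} : Set (Cfsg.Sz F m))) ⟨g, hg, rfl⟩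
  have h2 : orderOf g ∣ Nat.card (Subgroup.centralizer ({g} : Set (Cfsg.Sz F m))) :=
    Subgroup.orderOf_dvd_natCard _ (Subgroup.mem_centralizer_singleton_iff.mpr rfl)
  exact Odd.of_dvd_nat
    ((Nat.even_pow.mpr ⟨Nat.even_pow.mpr ⟨even_two, by omega⟩, two_ne_zero⟩).add_one)
    (h2.trans h1.2.2.1)

/-- A cover by nilpotent subgroups is not minimal. -/
theorem no_minimal (𝓐 : Finset (Subgroup (Cfsg.Sz F m)))
    (hcov : ∀ g : Cfsg.Sz F m, ∃ A ∈ 𝓐, g ∈ A)
    (hnil : ∀ A ∈ 𝓐, Group.IsNilpotent A) :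
    ∃ 𝓑 : Finset (Subgroup (Cfsg.Sz F m)), (∀ A ∈ 𝓑, A ≠ ⊤) ∧ (∀ g, ∃ A ∈ 𝓑, g ∈ A) ∧
      𝓑.card < 𝓐.card := by
  classical
  have := finite_sz h
  have := finite_ovoid h
  have := Fintype.ofFinite (Cfsg.Sz F m)
  have := Fintype.ofFinite (Cfsg.suzukiOvoid F m)
  have hcard : Nat.card (Cfsg.suzukiOvoid F m) = (2 ^ (2 * m + 1)) ^ 2 + 1 := card_ovoid' h
  choose z hz1 hz2 hzfix using exists_involution h
  obtain ⟨c, hco, hc1, hinf, hcfix⟩ := exists_split h
  let T := {U : Subgroup (Cfsg.Sz F m) // IsTorus U}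
  have := Fintype.ofFinite T
  choose t htf hte using fun U : T => U.2
  let r : Cfsg.suzukiOvoid F m ⊕ T ⊕ Unit → Cfsg.Sz F m := Sum.elim z (Sum.elim t fun _ => c)
  choose A hA hrA using fun i => hcov (r i)
  have hcomm : ∀ B ∈ 𝓐, ∀ x ∈ B, ∀ y ∈ B, (orderOf x).Coprime (orderOf y) → x * y = y * x := by
    intro B hB x hx y hy hxy
    haveI := hnil B hB
    exact congrArg Subtype.val (OddLocal.commute_of_coprime_orderOf (x := (⟨x, hx⟩ : B))
      (y := ⟨y, hy⟩) (by simpa [← Subgroup.orderOf_coe] using hxy)).eq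
  have hz_ord : ∀ a, orderOf (z a) = 2 := fun a => orderOf_eq_prime (hz2 a) (hz1 a)
  have hzt : ∀ B ∈ 𝓐, ∀ a U, z a ∈ B → t U ∈ B → False := by
    intro B hB a U hza htU
    have h1 := hcomm B hB _ hza _ htU (by
      rw [hz_ord]; exact Nat.coprime_two_left.mpr (odd_fpf h (htf U)))
    exact fpf_of_commute h (htf U) (hz1 a) h1 a ((hzfix a a).mpr rfl)
  have hzc : ∀ B ∈ 𝓐, ∀ a, z a ∈ B → c ∈ B → False := by
    intro B hB a hza hcB
    have h1 := hcomm B hB _ hza _ hcB (by rw [hz_ord]; exact Nat.coprime_two_left.mpr hco)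
    have h2 : c • a = a := (hzfix a (c • a)).mp (by rw [← mul_smul, h1, mul_smul, (hzfix a a).mpr rfl])
    have hbase : ∀ p : Cfsg.suzukiOvoid F m, c • p = p → c • (z a • p) = z a • p := fun p hp => by
      rw [← mul_smul, ← h1, mul_smul, hp]
    rcases hcfix a h2 with rfl | rfl
    · rcases hcfix _ (hbase _ hinf.2) with e | e
      · exact pt_ne_inf (m := m) (0 : F) 0 (smul_left_cancel _ (e.trans ((hzfix _ _).mpr rfl).symm))
      · exact pt_ne_inf (m := m) (0 : F) 0 ((hzfix _ _).mp e)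
    · rcases hcfix _ (hbase _ hinf.1) with e | e
      · exact pt_ne_inf (m := m) (0 : F) 0 ((hzfix _ _).mp e).symm
      · exact pt_ne_inf (m := m) (0 : F) 0
          (smul_left_cancel _ (e.trans ((hzfix _ _).mpr rfl).symm)).symm
  have htc : ∀ B ∈ 𝓐, ∀ U, t U ∈ B → c ∈ B → False := by
    intro B hB U htU hcB
    haveI := hnil B hB
    have hne : t U ≠ 1 := (htf U).ne_one
    haveI : Nontrivial B := ⟨⟨⟨t U, htU⟩, 1, fun e => hne (congrArg Subtype.val e)⟩⟩
    obtain ⟨⟨w, hw⟩, hw0⟩ := Subgroup.ne_bot_iff_exists_ne_one.mp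
      (Group.IsNilpotent.center_ne_bot (G := B))
    have hw1 : w ≠ 1 := fun e => hw0 (Subtype.ext (by simpa using e))
    have hwz : ∀ x ∈ B, (w : Cfsg.Sz F m) * x = x * w := fun x hx =>
      (congrArg Subtype.val (Subgroup.mem_center_iff.mp hw (⟨x, hx⟩ : B))).symm
    have hw' : (w : Cfsg.Sz F m) ≠ 1 := fun e => hw1 (Subtype.ext e)
    have hwf := fpf_of_commute h (htf U) hw' (hwz _ htU)
    exact fpf_of_commute h hwf hc1 (hwz _ hcB).symm _ hinf.1
  have hinj : Function.Injective A := by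
    rintro (a | U | u) (b | V | v) he <;> first | rfl | skip
    · obtain rfl : a = b := by
        have hb : z b ∈ A (.inl a) := he ▸ hrA (.inl b)
        have ha : z a ∈ A (.inl a) := hrA (.inl a)
        haveI := hnil _ (hA (.inl a))
        haveI : Fact (Nat.Prime 2) := ⟨Nat.prime_two⟩
        obtain ⟨P⟩ := (inferInstance : Nonempty (Sylow 2 (A (.inl a))))
        haveI := Core.isNilpotent_iff_forall_sylow_normal.mp (hnil _ (hA (.inl a))) 2 ⟨Nat.prime_two⟩ P
        have hmem : ∀ x : A (.inl a), orderOf x = 2 → x ∈ (P : Subgroup (A (.inl a))) := fun x hx =>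
          Subgroup.zpowers_le.mp (by
            obtain ⟨R, hR⟩ := (IsPGroup.of_card (p := 2) (n := 1) (G := Subgroup.zpowers x) (by
              rw [Nat.card_zpowers, hx, pow_one])).exists_le_sylow
            haveI := P.unique_of_normal inferInstance
            rwa [Subsingleton.elim P R])
        set P' := (P : Subgroup (A (.inl a))).map (A (.inl a)).subtype
        have hP' : IsPGroup 2 P' := P.2.map _
        obtain ⟨p, hp⟩ := hP'.nonempty_fixed_point_of_prime_not_dvd_card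
          (Cfsg.suzukiOvoid F m) (by
            rw [hcard]
            exact fun hd => Nat.not_even_iff_odd.mpr
              ((Nat.even_pow.mpr ⟨Nat.even_pow.mpr ⟨even_two, by omega⟩, two_ne_zero⟩).add_one)
              (even_iff_two_dvd.mpr hd))
        have hpa : ∀ a', z a' ∈ A (.inl a) → p = a' := fun a' hx => (hzfix a' p).mp
          (hp ⟨z a', ⟨⟨z a', hx⟩, hmem _ (by rw [Subgroup.orderOf_mk, hz_ord]), rfl⟩⟩)
        rw [← hpa a ha, ← hpa b hb]
      rfl
    · exact (hzt _ (hA _) a V (hrA (.inl a)) (he ▸ hrA (.inr (.inl V)))).elim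
    · exact (hzc _ (hA _) a (hrA (.inl a)) (he ▸ hrA (.inr (.inr v)))).elim
    · exact (hzt _ (hA _) b U (he ▸ hrA (.inl b)) (hrA (.inr (.inl U)))).elim
    · have hV : t V ∈ A (.inr (.inl U)) := he ▸ hrA (.inr (.inl V))
      have hU : t U ∈ A (.inr (.inl U)) := hrA (.inr (.inl U))
      set B := A (.inr (.inl U))
      haveI := hnil B (hA _)
      haveI : Nontrivial B := ⟨⟨⟨t U, hU⟩, 1, fun e => (htf U).ne_one (congrArg Subtype.val e)⟩⟩
      obtain ⟨⟨w, hw⟩, hw1⟩ := Subgroup.ne_bot_iff_exists_ne_one.mp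
        (Group.IsNilpotent.center_ne_bot (G := B))
      have hwz : ∀ x ∈ B, (w : Cfsg.Sz F m) * x = x * w := fun x hx =>
        (congrArg Subtype.val (Subgroup.mem_center_iff.mp hw (⟨x, hx⟩ : B))).symm
      have hw' : (w : Cfsg.Sz F m) ≠ 1 := fun e => hw1 (Subtype.ext (Subtype.ext (by simpa using e)))
      have hUV : (U : Subgroup (Cfsg.Sz F m)) = V := by
        have e1 := (torus_self h U.2 (u := (w : Cfsg.Sz F m)) (by
          rw [hte U]; exact Subgroup.mem_centralizer_singleton_iff.mpr (hwz _ hU)) hw').2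
        have e2 := (torus_self h V.2 (u := (w : Cfsg.Sz F m)) (by
          rw [hte V]; exact Subgroup.mem_centralizer_singleton_iff.mpr (hwz _ hV)) hw').2
        exact e1.symm.trans e2
      rw [Subtype.ext hUV]
    · exact (htc _ (hA _) U (hrA (.inr (.inl U))) (he ▸ hrA (.inr (.inr v)))).elim
    · exact (hzc _ (hA _) b (he ▸ hrA (.inl b)) (hrA (.inr (.inr u)))).elim
    · exact (htc _ (hA _) V (he ▸ hrA (.inr (.inl V))) (hrA (.inr (.inr u)))).elim
  refine ⟨Finset.univ.image (fun a : Cfsg.suzukiOvoid F m => MulAction.stabilizer (Cfsg.Sz F m) a) ∪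
    Finset.univ.image (fun U : T => (U : Subgroup (Cfsg.Sz F m))), ?_, ?_, ?_⟩
  · intro B hB
    simp only [Finset.mem_union, Finset.mem_image, Finset.mem_univ, true_and] at hB
    rcases hB with ⟨a, rfl⟩ | ⟨U, rfl⟩
    · intro e
      obtain ⟨g, hg⟩ := exists_fpf h
      exact hg a (MulAction.mem_stabilizer_iff.mp (e ▸ Subgroup.mem_top g))
    · intro e
      have h1 : z (inf' F m) ∈ (U : Subgroup (Cfsg.Sz F m)) := e ▸ Subgroup.mem_top _
      exact (torus_self h U.2 h1 (hz1 _)).1 _ ((hzfix _ _).mpr rfl)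
  · intro g
    by_cases hg : Fpf g
    · exact ⟨_, Finset.mem_union_right _ (Finset.mem_image.mpr ⟨⟨_, g, hg, rfl⟩, Finset.mem_univ _, rfl⟩),
        Subgroup.mem_centralizer_singleton_iff.mpr rfl⟩
    · simp only [Fpf, not_forall, not_not] at hg
      obtain ⟨a, ha⟩ := hg
      exact ⟨_, Finset.mem_union_left _ (Finset.mem_image.mpr ⟨a, Finset.mem_univ _, rfl⟩), ha⟩
  · calc _ ≤ Fintype.card (Cfsg.suzukiOvoid F m) + Fintype.card T :=
          (Finset.card_union_le _ _).trans (Nat.add_le_add Finset.card_image_le Finset.card_image_le)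
      _ < Fintype.card (Cfsg.suzukiOvoid F m ⊕ T ⊕ Unit) := by
          simp only [Fintype.card_sum, Fintype.card_unit]; omega
      _ = (Finset.univ.image A).card := by
          rw [Finset.card_image_of_injective _ hinj, Finset.card_univ]
      _ ≤ 𝓐.card := Finset.card_le_card (fun B hB => by
          obtain ⟨i, -, rfl⟩ := Finset.mem_image.mp hB
          exact hA i)

end Cfsg.Agent.LeadWork.SzCover
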